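import Cfsg.Agent.Lib.SzSquare.Cover

/-!
A minimal cover of `Sz(q)` inside a group with the spectral bound: what it centralises and fixes.
-/

set_option autoImplicit false
set_option linter.style.haveILetI false
set_option linter.unusedSectionVars false

namespace Cfsg.Agent.SzSquare

open Cfsg.Agent.Suzuki Subgroup
open scoped IsMulCommutative commutatorElement

universe u v

variable {F : Type*} [Field F] [Fintype F] {m : ℕ} (h : SzField F m)
variable {K : Type u} [Group K] [Finite K] {π : K →* Cfsg.Sz F m} (hπ : Function.Surjective π)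
  (hmin : IsMin π) {G : Type v} [Group G] [Finite G] {ι : K →* G} (hι : Function.Injective ι)
  (hG : Bounded G m)

include hι hG in
theorem bounded_of_injective : Bounded K m := fun k => by
  simpa only [orderOf_injective ι hι] using hG (ι k)

include h hπ hmin hι hG in
/-- Groups of the first two kinds normalised by a cover are centralised. -/
theorem centralises {w : ℕ} [hw : Fact w.Prime] (hw01 : w = 2 ∨ w ∣ M m 1) {P : Subgroup G}
    (hP : IsPGroup w P) (hKP : ι.range ≤ normalizer (P : Set G)) :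
    ι.range ≤ centralizer (P : Set G) := by
  by_contra hno
  obtain ⟨P0, ⟨hP0P, hP0n, hP0c⟩, hmin0⟩ := (Set.toFinite {P0 : Subgroup G | P0 ≤ P ∧
    ι.range ≤ normalizer (P0 : Set G) ∧ ¬ ι.range ≤ centralizer (P0 : Set G)}).exists_minimal
    ⟨P, le_rfl, hKP, hno⟩
  have hp0 : IsPGroup w P0 := hP.to_le hP0P
  have hP0ne : P0 ≠ ⊥ := fun e => hP0c (by
    rw [e]
    exact fun k _ => mem_centralizer_iff.2 fun x hx => by rw [mem_bot.1 hx, one_mul, mul_one])
  haveI := SpecTri.vbar_normal P0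
  set N := normalizer (P0 : Set G)
  let q := QuotientGroup.mk' (SpecTri.phi P0)
  let ψ : K →* N ⧸ SpecTri.phi P0 := q.comp (ι.codRestrict N fun k => hP0n ⟨k, rfl⟩)
  set V := SpecTri.vbar P0
  haveI : IsMulCommutative V := (SpecTri.vbar_elementary P0 hp0).1
  have hVw : ∀ x ∈ V, x ^ w = 1 := (SpecTri.vbar_elementary P0 hp0).2
  let ρ : K →* MulAut V := (MulAut.conjNormal (H := V)).comp ψ
  by_cases htriv : ∀ k, ρ k = 1
  · -- `[P0, K]` lies in the Frattini subgroup, which is centralised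
    set Φ := (frattini P0).map P0.subtype
    have hΦlt : Φ < P0 := by
      refine lt_of_le_of_ne (map_subtype_le _) fun e => ?_
      haveI : Nontrivial P0 := (nontrivial_iff_ne_bot P0).2 hP0ne
      have e2 : frattini P0 = ⊤ := map_injective P0.subtype_injective
        (by rw [← MonoidHom.range_eq_map, range_subtype]; exact e)
      exact (bot_ne_top (α := Subgroup P0)) (frattini_nongenerating (G := P0) (K := ⊥) (by rw [e2, bot_sup_eq]))
    have hphi : ∀ {g : N}, g ∈ SpecTri.phi P0 ↔ (g : G) ∈ Φ := fun {g} => by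
      constructor
      · rintro ⟨x, hx, rfl⟩; exact ⟨x, hx, rfl⟩
      · rintro ⟨x, hx, e⟩; exact ⟨x, hx, Subtype.ext e⟩
    have hΦn : ι.range ≤ normalizer (Φ : Set G) := by
      rintro _ ⟨k, rfl⟩
      refine mem_normalizer_fintype fun x hx => ?_
      have hxN : x ∈ N := le_normalizer (hΦlt.le hx)
      exact hphi.1 ((SpecTri.phi_normal P0).conj_mem ⟨x, hxN⟩ (hphi.2 hx) ⟨ι k, hP0n ⟨k, rfl⟩⟩)
    have hΦc : ι.range ≤ centralizer (Φ : Set G) := by
      by_contra hc
      exact hΦlt.not_ge (hmin0 ⟨hΦlt.le.trans hP0P, hΦn, hc⟩ hΦlt.le)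
    have hcomm : ⁅P0, ι.range⁆ ≤ Φ := commutator_le.2 fun p hp g hg => by
      obtain ⟨k, rfl⟩ := hg
      have hpN : p ∈ N := le_normalizer hp
      have hkN : ι k ∈ N := hP0n ⟨k, rfl⟩
      refine hphi.1 (show (⁅(⟨p, hpN⟩ : N), (⟨ι k, hkN⟩ : N)⁆ : N) ∈ SpecTri.phi P0 from (QuotientGroup.eq_one_iff _).1 ?_)
      show q ⁅(⟨p, hpN⟩ : N), (⟨ι k, hkN⟩ : N)⁆ = 1
      rw [map_commutatorElement, commutatorElement_eq_one_iff_mul_comm]
      have hmem : q ⟨p, hpN⟩ ∈ V := mem_map_of_mem q (show (⟨p, hpN⟩ : N) ∈ P0.subgroupOf N from hp)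
      have h1 := congrArg Subtype.val (DFunLike.congr_fun (htriv k) (⟨_, hmem⟩ : V))
      simp only [ρ, MonoidHom.comp_apply, MulAut.conjNormal_apply, MulAut.one_apply] at h1
      exact (mul_inv_eq_iff_eq_mul.1 h1).symm
    have h2 : ⁅⁅P0, ι.range⁆, ι.range⁆ = ⊥ :=
      eq_bot_iff.2 ((commutator_mono hcomm le_rfl).trans
        (commutator_eq_bot_iff_le_centralizer.2 (le_centralizer_iff.1 hΦc)).le)
    have h3 := commutator_commutator_eq_bot_of_rotate (H₁ := ι.range) (H₂ := ι.range) (H₃ := P0)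
      (by rw [commutator_comm ι.range P0]; exact h2) h2
    rw [show ⁅ι.range, ι.range⁆ = ι.range by
      rw [MonoidHom.range_eq_map, ← map_commutator, perfect h hπ hmin]] at h3
    exact hP0c (commutator_eq_bot_iff_le_centralizer.1 h3)
  · have hB := bounded_of_injective hι hG
    obtain ⟨a, i, C, u, hF, hCw, ⟨c, hc, hc1⟩, hwi, hwa⟩ : ∃ (a : ℕ) (i : Fin 4) (C : Subgroup K) (u : K),
        Frob C u (w ^ a) ∧ (Nat.card C).Coprime w ∧ (∃ c ∈ C, π c ≠ 1) ∧ w ∣ M m i ∧
          ¬ w ^ (a + 1) ∣ M m i := by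
      rcases hw01 with rfl | hw1
      · obtain ⟨C, u, hF, hc, hex⟩ := cover_member h hπ hmin hB (i := 2) (Or.inl rfl)
        exact ⟨2, 0, C, u, hF, hc ▸ (Nat.coprime_two_right.2 (M_odd h.one_le (by decide))), hex,
          ⟨2, rfl⟩, by rw [M0]; decide⟩
      · have hM := M_pos h.one_le 1
        obtain ⟨C, u, hF, hC2, hex⟩ := cover_z h hπ hmin hB (o := w ^ (M m 1).factorization w)
          (Nat.ordProj_dvd _ _) (Nat.one_lt_pow (hw.out.factorization_pos_of_dvd hM.ne' hw1).ne' hw.out.one_lt)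
        haveI : Fact (Nat.Prime 2) := ⟨Nat.prime_two⟩
        obtain ⟨e, he⟩ := IsPGroup.iff_card.1 hC2
        refine ⟨_, 1, C, u, hF, ?_, hex, hw1, fun hd => ?_⟩
        · rw [he]
          refine ((Nat.coprime_primes Nat.prime_two hw.out).2 ?_).pow_left e
          rintro rfl
          exact (Nat.not_even_iff_odd.2 (M_odd h.one_le (i := 1) (by decide))) (even_iff_two_dvd.2 hw1)
        · exact Nat.pow_succ_factorization_not_dvd hM.ne' hw.out hd
    have hne : ∃ c ∈ C, ρ c ≠ 1 := ⟨c, hc, fun e => htriv (hom_eq_one h hπ hmin ρ hc1 e)⟩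
    obtain ⟨v, hv⟩ := exists_normProd ρ (fun x => Subtype.ext (hVw x x.2)) (pow_pos hw.out.pos a) hF hCw hne
    have hlp := lift_pow V (MulAut.conjNormal (H := V)) (fun x y => MulAut.conjNormal_apply x y) v (ψ u) (w ^ a)
    have huo : ψ u ^ w ^ a = 1 := by rw [← map_pow, ← hF.ord, pow_orderOf_eq_one, map_one]
    rw [huo, mul_one, show normProd (MulAut.conjNormal (H := V)) (ψ u) (w ^ a) v = normProd ρ u (w ^ a) v by
      simp [normProd, ρ, ← map_pow]] at hlp
    have hord : orderOf ((v : N ⧸ SpecTri.phi P0) * ψ u) = w ^ (a + 1) := by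
      refine orderOf_eq_prime_pow ?_ ?_
      · rw [hlp]; exact fun e => hv (Subtype.ext e)
      · rw [pow_succ, pow_mul, hlp]; exact hVw _ (Subtype.coe_prop _)
    exact ((hG.sub N).quot q (QuotientGroup.mk'_surjective _)).not_pow_dvd h.one_le hw.out hwi hwa _
      (dvd_of_eq hord.symm)

include h hπ hmin hι in
/-- A Frobenius operator of a cover fixes an element of every `w`-group it normalises. -/
theorem fixes {w : ℕ} [hw : Fact w.Prime] {Q : Subgroup G} (hQ : IsPGroup w Q) (hQ1 : Q ≠ ⊥)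
    (hKQ : ι.range ≤ normalizer (Q : Set G)) {C : Subgroup K} {u : K} {o : ℕ} (hF : Frob C u o)
    (hCw : (Nat.card C).Coprime w) (how : o.Coprime w) (hC1 : ∃ c ∈ C, π c ≠ 1) :
    SpecTri.Fixes Q (ι u) := by
  by_contra hnf
  have ho : orderOf (ι u) = o := by rw [orderOf_injective ι hι, hF.ord]
  have hcent := SpecTri.frob (C.map ι) Q (ι u) (le_normalizer_map ι ⟨u, hF.norm, rfl⟩) (hKQ ⟨u, rfl⟩)
    ((map_le_range _ _).trans hKQ) hQ (by rwa [card_map_of_injective hι]) (by rwa [ho]) (by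
      intro i hi hio a ha hc
      obtain ⟨c, hc', rfl⟩ := ha
      rw [hF.fpf i hi (ho ▸ hio) c hc' (hι (by rw [map_mul, map_mul, map_pow]; exact hc)), map_one]) hnf
  obtain ⟨c, hc, hc1⟩ := hC1
  let ρ : K →* MulAut Q := Q.normalizerMonoidHom.comp (ι.codRestrict _ fun k => hKQ ⟨k, rfl⟩)
  have hρc : ρ c = 1 := MulEquiv.ext fun x => Subtype.ext (by
    show ι c * (x : G) * (ι c)⁻¹ = x
    rw [← mem_centralizer_iff.1 (hcent (mem_map_of_mem ι hc)) x x.2, mul_inv_cancel_right])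
  have hu := hom_eq_one h hπ hmin ρ hc1 hρc u
  obtain ⟨x, hx, hx1⟩ := Q.bot_or_exists_ne_one.resolve_left hQ1
  refine hnf ⟨x, hx, hx1, ?_⟩
  have h1 : ι u * x * (ι u)⁻¹ = x := congrArg Subtype.val (DFunLike.congr_fun hu (⟨x, hx⟩ : Q) : ρ u ⟨x, hx⟩ = ⟨x, hx⟩)
  exact mul_inv_eq_iff_eq_mul.1 h1

end Cfsg.Agent.SzSquare
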