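import Cfsg.Agent.Lib.SzMaxOrd.Orders

/-!
Arithmetic of the four kinds of element orders `4`, `q - 1`, `q ± √(2q) + 1` of `Sz(q)`.
-/

set_option autoImplicit false
set_option linter.style.haveILetI false
set_option linter.unusedSectionVars false

namespace Cfsg.Agent.SzSquare

open Cfsg.Agent.SzMaxOrd (tA tB tA_mul_tB facts rel)

/-- The four kinds of element orders of `Sz(2^(2m+1))`. -/
def M (m : ℕ) : Fin 4 → ℕ := ![4, 2 ^ (2 * m + 1) - 1, tA m, tB m]

theorem M0 (m : ℕ) : M m 0 = 4 := rfl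
theorem M1 (m : ℕ) : M m 1 = 2 ^ (2 * m + 1) - 1 := rfl
theorem M2 (m : ℕ) : M m 2 = tA m := rfl
theorem M3 (m : ℕ) : M m 3 = tB m := rfl

theorem mer_odd (m : ℕ) : Odd (2 ^ (2 * m + 1) - 1) :=
  Nat.Even.sub_odd Nat.one_le_two_pow (Nat.even_pow.2 ⟨even_two, by omega⟩) odd_one

/-- `2^k - 1` is prime to `4^n + 1` for odd `k`. -/
theorem coprime_mer (l n : ℕ) : (2 ^ (2 * l + 1) - 1).Coprime ((2 ^ n) ^ 2 + 1) := by
  refine Nat.coprime_of_dvd fun p hp h1 h2 => ?_
  haveI := Fact.mk hp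
  have e1 : (2 : ZMod p) ^ (2 * l + 1) = 1 := by
    have h := (ZMod.natCast_eq_zero_iff _ p).2 h1
    rw [Nat.cast_sub Nat.one_le_two_pow, sub_eq_zero] at h
    simpa using h
  have e2 : ((2 : ZMod p) ^ n) ^ 2 = -1 := by
    have h := (ZMod.natCast_eq_zero_iff _ p).2 h2
    push_cast at h
    exact eq_neg_of_add_eq_zero_left h
  have e3 : ((-1 : ZMod p)) ^ (2 * l + 1) = 1 := by
    rw [← e2, ← pow_mul, ← pow_mul, show n * (2 * (2 * l + 1)) = (2 * l + 1) * (2 * n) by ring, pow_mul,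
      e1, one_pow]
  rw [Odd.neg_one_pow ⟨l, rfl⟩] at e3
  have h4 : ((2 : ℕ) : ZMod p) = 0 := by
    push_cast
    linear_combination -e3
  have hp2 : p = 2 := (Nat.prime_dvd_prime_iff_eq hp Nat.prime_two).1 ((ZMod.natCast_eq_zero_iff _ p).1 h4)
  subst hp2
  exact (Nat.not_even_iff_odd.2 (mer_odd l)) (even_iff_two_dvd.2 h1)

theorem one_lt_M {m : ℕ} (hm : 1 ≤ m) (i : Fin 4) : 1 < M m i := by
  have F := facts hm
  obtain ⟨R, Q, hQ, hR, -, h2, h8, -, -⟩ := rel hm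
  fin_cases i <;> simp [M]
  · omega
  · linarith [F.ltA]
  · linarith [F.ltB]

theorem M_pos {m : ℕ} (hm : 1 ≤ m) (i : Fin 4) : 0 < M m i := by have := one_lt_M hm i; omega

theorem M_odd {m : ℕ} (hm : 1 ≤ m) {i : Fin 4} (hi : i ≠ 0) : Odd (M m i) := by
  have F := facts hm
  fin_cases i
  · exact absurd rfl hi
  · exact mer_odd m
  · exact F.oddA
  · exact F.oddB

theorem M_coprime {m : ℕ} (hm : 1 ≤ m) {i j : Fin 4} (hij : i ≠ j) : (M m i).Coprime (M m j) := by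
  have F := facts hm
  have h4 : ∀ {k : Fin 4}, k ≠ 0 → (M m 0).Coprime (M m k) := fun {k} hk => by
    rw [M0, show (4 : ℕ) = 2 ^ 2 by norm_num]
    exact (Nat.coprime_two_left.2 (M_odd hm hk)).pow_left 2
  have h1A : (2 ^ (2 * m + 1) - 1).Coprime (tA m) :=
    (coprime_mer m (2 * m + 1)).coprime_dvd_right (Dvd.intro _ (tA_mul_tB hm))
  have h1B : (2 ^ (2 * m + 1) - 1).Coprime (tB m) :=
    (coprime_mer m (2 * m + 1)).coprime_dvd_right (Dvd.intro_left _ (tA_mul_tB hm))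
  fin_cases i <;> fin_cases j <;>
    first
    | exact absurd rfl hij
    | exact h4 (by decide)
    | exact (h4 (by decide)).symm
    | exact h1A
    | exact h1B
    | exact F.cAB
    | exact h1A.symm
    | exact h1B.symm
    | exact F.cAB.symm

/-- A number dividing two of the four is one. -/
theorem eq_one_of_dvd_two {m : ℕ} (hm : 1 ≤ m) {i j : Fin 4} (hij : i ≠ j) {d : ℕ} (hi : d ∣ M m i)
    (hj : d ∣ M m j) : d = 1 :=
  Nat.dvd_one.1 ((M_coprime hm hij) ▸ Nat.dvd_gcd hi hj)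

theorem type_unique {m : ℕ} (hm : 1 ≤ m) {i j : Fin 4} {p : ℕ} (hp : p.Prime) (hi : p ∣ M m i)
    (hj : p ∣ M m j) : i = j :=
  by_contra fun h => hp.ne_one (eq_one_of_dvd_two hm h hi hj)

theorem M_mul {m : ℕ} (hm : 1 ≤ m) :
    (2 ^ (2 * m + 1) - 1) * ((2 ^ (2 * m + 1)) ^ 2 + 1) = M m 1 * (M m 2 * M m 3) := by
  rw [M1, M2, M3, tA_mul_tB hm]

/-- `3` divides none of them. -/
theorem three_not_dvd_M {m : ℕ} (hm : 1 ≤ m) (i : Fin 4) : ¬ 3 ∣ M m i := by
  intro hd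
  have h2 : ((2 : ℕ) ^ (2 * m + 1)) % 3 = 2 := by
    rw [pow_succ, pow_mul, Nat.mul_mod, Nat.pow_mod]
    norm_num
  have hq := rel hm
  have e : ∀ {k : ℕ}, k ∣ (2 ^ (2 * m + 1)) ^ 2 + 1 → 3 ∣ k → False := fun {k} hk h3 => by
    have := h3.trans hk
    rw [Nat.dvd_iff_mod_eq_zero, Nat.add_mod, Nat.pow_mod, h2] at this
    norm_num at this
  fin_cases i
  · change (3 ∣ 4) at hd
    omega
  · change 3 ∣ 2 ^ (2 * m + 1) - 1 at hd
    omega
  · exact e (Dvd.intro _ (tA_mul_tB hm)) hd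
  · exact e (Dvd.intro_left _ (tA_mul_tB hm)) hd

/-- `2^l - 1` dividing a product of two of the four divides `q - 1`, so `l ∣ 2m+1`. -/
theorem degree_dvd {m l : ℕ} (hm : 1 ≤ m) {i j : Fin 4} (hij : i ≠ j) (h : 2 ^ (2 * l + 1) - 1 ∣ M m i * M m j) :
    2 * l + 1 ∣ 2 * m + 1 := by
  have hc : ∀ k : Fin 4, k ≠ 1 → (2 ^ (2 * l + 1) - 1).Coprime (M m k) := by
    intro k hk
    fin_cases k
    · change (2 ^ (2 * l + 1) - 1).Coprime (2 ^ 2)
      exact (Nat.coprime_two_right.2 (mer_odd l)).pow_right 2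
    · exact absurd rfl hk
    · exact (coprime_mer l (2 * m + 1)).coprime_dvd_right (Dvd.intro _ (tA_mul_tB hm))
    · exact (coprime_mer l (2 * m + 1)).coprime_dvd_right (Dvd.intro_left _ (tA_mul_tB hm))
  have hd : 2 ^ (2 * l + 1) - 1 ∣ 2 ^ (2 * m + 1) - 1 := by
    by_cases hi : i = 1
    · subst hi
      exact (hc j hij.symm).dvd_of_dvd_mul_right h
    · by_cases hj : j = 1
      · subst hj
        exact (hc i hi).dvd_of_dvd_mul_left h
      · have h1 := ((hc i hi).mul_right (hc j hj)).eq_one_of_dvd h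
        have : 2 ^ 1 ≤ 2 ^ (2 * l + 1) := Nat.pow_le_pow_right (by norm_num) (by omega)
        have h2 : 2 ^ (2 * l + 1) = 2 ^ 1 := by omega
        have := Nat.pow_right_injective le_rfl h2
        rw [show 2 * l + 1 = 1 by omega]
        simp
  have h1 := Nat.gcd_eq_left hd
  rw [Nat.pow_sub_one_gcd_pow_sub_one] at h1
  have h2 : 2 ^ (Nat.gcd (2 * l + 1) (2 * m + 1)) = 2 ^ (2 * l + 1) := by
    have := Nat.one_le_two_pow (n := 2 * l + 1)
    have := Nat.one_le_two_pow (n := Nat.gcd (2 * l + 1) (2 * m + 1))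
    omega
  rw [← Nat.pow_right_injective le_rfl h2]
  exact Nat.gcd_dvd_right _ _


/-- `A_n` and `B_n` as the norms of `(1+i)^n ± 1`. -/
theorem gauss_norms (m : ℕ) :
    let z : GaussianInt := ⟨1, 1⟩
    ((z ^ (2 * m + 1) - 1).norm = (tA m : ℤ) ∧ (z ^ (2 * m + 1) + 1).norm = (tB m : ℤ)) ∨
      ((z ^ (2 * m + 1) - 1).norm = (tB m : ℤ) ∧ (z ^ (2 * m + 1) + 1).norm = (tA m : ℤ)) := by
  intro z
  have key : ∀ k : ℕ, (z ^ (2 * k + 1)).re ^ 2 = (4 : ℤ) ^ k ∧ (z ^ (2 * k + 1)).im ^ 2 = (4 : ℤ) ^ k := by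
    intro k
    induction k with
    | zero => simp [z]
    | succ k ih =>
      rw [show 2 * (k + 1) + 1 = (2 * k + 1) + 1 + 1 by ring, pow_succ z, pow_succ z, pow_succ (4 : ℤ)]
      simp only [Zsqrtd.re_mul, Zsqrtd.im_mul, z]
      constructor
      · linear_combination (4 : ℤ) * ih.2
      · linear_combination (4 : ℤ) * ih.1
  obtain ⟨hre, him⟩ := key m
  set w := z ^ (2 * m + 1)
  have h2 : ((2 : ℤ) ^ m) ^ 2 = 4 ^ m := by rw [← pow_mul, mul_comm, pow_mul]; norm_num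
  have hA : (tA m : ℤ) = 2 * 4 ^ m + 2 * 2 ^ m + 1 := by
    rw [tA]; push_cast; rw [pow_succ, pow_succ, pow_mul]; norm_num; ring
  have hB : (tB m : ℤ) = 2 * 4 ^ m - 2 * 2 ^ m + 1 := by
    have hle : 2 ^ (m + 1) ≤ 2 ^ (2 * m + 1) := Nat.pow_le_pow_right (by norm_num) (by omega)
    rw [tB]; push_cast [hle]; rw [pow_succ, pow_succ, pow_mul]; norm_num; ring
  rcases sq_eq_sq_iff_eq_or_eq_neg.1 (hre.trans h2.symm) with e | e
  · right
    rw [hA, hB, Zsqrtd.norm_def, Zsqrtd.norm_def]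
    simp only [Zsqrtd.re_sub, Zsqrtd.re_add, Zsqrtd.im_sub, Zsqrtd.im_add, Zsqrtd.re_one, Zsqrtd.im_one]
    constructor <;> · rw [e]; linear_combination him + h2
  · left
    rw [hA, hB, Zsqrtd.norm_def, Zsqrtd.norm_def]
    simp only [Zsqrtd.re_sub, Zsqrtd.re_add, Zsqrtd.im_sub, Zsqrtd.im_add, Zsqrtd.re_one, Zsqrtd.im_one]
    constructor <;> · rw [e]; linear_combination him + h2

/-- For `l ∣ n` each torus of the large group meets `4^l + 1` in at most the larger torus of the small one. -/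
theorem gcd_torus_le {l m : ℕ} (hl : 1 ≤ l) (hm : 1 ≤ m) (hd : 2 * l + 1 ∣ 2 * m + 1) {i : Fin 4}
    (hi : i = 2 ∨ i = 3) : Nat.gcd (M m i) ((2 ^ (2 * l + 1)) ^ 2 + 1) ≤ tA l := by
  set z : GaussianInt := ⟨1, 1⟩
  obtain ⟨t, ht⟩ := hd
  have hodd : Odd t := by
    have h : Odd ((2 * l + 1) * t) := ⟨m, ht.symm⟩
    exact (Nat.odd_mul.1 h).2
  have d1 : (z ^ (2 * l + 1) - 1).norm ∣ (z ^ (2 * m + 1) - 1).norm := by
    obtain ⟨c, hc⟩ : z ^ (2 * l + 1) - 1 ∣ z ^ (2 * m + 1) - 1 := by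
      rw [ht, pow_mul]
      simpa using sub_dvd_pow_sub_pow (z ^ (2 * l + 1)) 1 t
    exact ⟨c.norm, by rw [hc, Zsqrtd.norm_mul]⟩
  have d2 : (z ^ (2 * l + 1) + 1).norm ∣ (z ^ (2 * m + 1) + 1).norm := by
    obtain ⟨c, hc⟩ : z ^ (2 * l + 1) + 1 ∣ z ^ (2 * m + 1) + 1 := by
      have h := hodd.add_dvd_pow_add_pow (z ^ (2 * l + 1)) 1
      rwa [one_pow, ← pow_mul, ← ht] at h
    exact ⟨c.norm, by rw [hc, Zsqrtd.norm_mul]⟩
  have L := facts hl
  have hN := tA_mul_tB hl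
  rw [← hN]
  have main : ∀ {a b c d : ℕ}, a ∣ c → b ∣ d → c.Coprime d → ∀ {C}, C = c ∨ C = d →
      0 < a → 0 < b → Nat.gcd C (a * b) ≤ max a b := by
    intro a b c d ha hb hcd C hC ha0 hb0
    rcases hC with rfl | rfl
    · rw [Nat.Coprime.gcd_mul_right_cancel_right _ (hcd.coprime_dvd_right hb).symm]
      exact (Nat.gcd_le_right _ ha0).trans (le_max_left _ _)
    · rw [Nat.Coprime.gcd_mul_left_cancel_right _ (hcd.coprime_dvd_left ha)]
      exact (Nat.gcd_le_right _ hb0).trans (le_max_right _ _)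
  have hA0 : 0 < tA l := by linarith [L.ltA]
  have hB0 : 0 < tB l := by linarith [L.ltB]
  have F := facts hm
  have hC : M m i = tA m ∨ M m i = tB m := by rcases hi with rfl | rfl <;> simp [M]
  have hmax : max (tA l) (tB l) = tA l := max_eq_left L.leB
  have hmax' : max (tB l) (tA l) = tA l := max_eq_right L.leB
  rcases gauss_norms l with ⟨e1, e2⟩ | ⟨e1, e2⟩ <;> rcases gauss_norms m with ⟨f1, f2⟩ | ⟨f1, f2⟩
  all_goals rw [e1, f1, Int.natCast_dvd_natCast] at d1; rw [e2, f2, Int.natCast_dvd_natCast] at d2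
  · exact (main d1 d2 F.cAB hC hA0 hB0).trans hmax.le
  · exact (main d1 d2 F.cAB.symm hC.symm hA0 hB0).trans hmax.le
  · rw [mul_comm]; exact (main d1 d2 F.cAB hC hB0 hA0).trans hmax'.le
  · rw [mul_comm]; exact (main d1 d2 F.cAB.symm hC.symm hB0 hA0).trans hmax'.le

/-- The exponent bound for the automorphism group of `Sz(2^(2l+1))`. -/
def expo (l : ℕ) : ℕ :=
  (4 * ((2 ^ (2 * l + 1) - 1) * ((2 ^ (2 * l + 1)) ^ 2 + 1))) * (2 * l + 1)

/-- An odd kind meets the exponent of a smaller group in little. -/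
theorem gcd_expo_le {l m : ℕ} (hl : 1 ≤ l) (hm : 1 ≤ m) (hd : 2 * l + 1 ∣ 2 * m + 1) {i : Fin 4} (hi : i ≠ 0) :
    Nat.gcd (M m i) (expo l) ≤ 2 ^ (2 * l + 2) * (2 * l + 1) := by
  set q := 2 ^ (2 * l + 1)
  set g := Nat.gcd (M m i) ((q - 1) * (q ^ 2 + 1)) with hg
  have h4 : (M m i).Coprime 4 := by
    rw [show (4 : ℕ) = 2 ^ 2 by norm_num]
    exact (Nat.coprime_two_right.2 (M_odd hm hi)).pow_right 2
  have hle : g ≤ 2 ^ (2 * l + 2) := by
    obtain ⟨R, Q, hQ, hR, -, h2, h8, -, -⟩ := rel hl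
    have hQ2 : 2 ^ (2 * l + 2) = 2 * Q := by rw [hQ, ← pow_succ']
    have hA : tA l ≤ 2 ^ (2 * l + 2) := by
      rw [tA, hQ2, ← hQ, ← hR]; omega
    by_cases h1 : i = 1
    · subst h1
      show Nat.gcd (2 ^ (2 * m + 1) - 1) ((2 ^ (2 * l + 1) - 1) * ((2 ^ (2 * l + 1)) ^ 2 + 1)) ≤ _
      rw [Nat.Coprime.gcd_mul_right_cancel_right _ (coprime_mer m (2 * l + 1)).symm]
      refine (Nat.gcd_le_right _ (by omega)).trans ?_
      rw [hQ2, ← hQ]; omega
    · have hi' : i = 2 ∨ i = 3 := by fin_cases i <;> simp_all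
      have hc : (M m i).Coprime (q - 1) := by
        have h := coprime_mer l (2 * m + 1)
        rw [← tA_mul_tB hm] at h
        rcases hi' with rfl | rfl
        · exact (h.coprime_dvd_right (dvd_mul_right _ _)).symm
        · exact (h.coprime_dvd_right (dvd_mul_left _ _)).symm
      rw [hg, Nat.Coprime.gcd_mul_left_cancel_right _ hc.symm]
      exact (gcd_torus_le hl hm hd hi').trans hA
  refine (Nat.le_of_dvd (Nat.mul_pos (Nat.gcd_pos_of_pos_left _ (M_pos hm i))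
    (Nat.gcd_pos_of_pos_left _ (M_pos hm i))) (Nat.gcd_mul_right_dvd_mul_gcd _ _ _)).trans
    (Nat.mul_le_mul ?_ (Nat.gcd_le_right _ (by omega)))
  rw [Nat.Coprime.gcd_mul_left_cancel_right _ h4.symm]
  exact hle

theorem big_M {m : ℕ} (hm : 1 ≤ m) {i : Fin 4} (hi : i ≠ 0) : 2 ^ (2 * m) ≤ M m i := by
  obtain ⟨R, Q, hQ, hR, -, h2, h8, -, -⟩ := rel hm
  have h : Q = 2 * 2 ^ (2 * m) := by rw [hQ, pow_succ, mul_comm]
  fin_cases i <;> simp [M, tA, tB, ← hQ, ← hR] at hi ⊢ <;> omega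

theorem sq_lt_two_pow (d : ℕ) (hd : 4 ≤ d) : 15 * (d + 3) ^ 2 < 49 * 2 ^ d := by
  induction d, hd using Nat.le_induction with
  | base => norm_num
  | succ d hd ih => rw [pow_succ 2 d]; nlinarith

/-- An odd kind does not divide the exponent of two automorphism groups of proper subfield groups. -/
theorem not_dvd_lcm {l l' m : ℕ} (hl : 1 ≤ l) (hl' : 1 ≤ l') (hm : 1 ≤ m)
    (hd : 2 * l + 1 ∣ 2 * m + 1) (hd' : 2 * l' + 1 ∣ 2 * m + 1) (hlt : l < m) (hlt' : l' < m)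
    {i : Fin 4} (hi : i ≠ 0) : ¬ M m i ∣ 2 * Nat.lcm (expo l) (expo l') := by
  intro hdvd
  have h := (Nat.coprime_two_right.2 (M_odd hm hi)).dvd_of_dvd_mul_left hdvd
  have hb := big_M hm hi
  have three : ∀ {k : ℕ}, 2 * k + 1 ∣ 2 * m + 1 → k < m → 3 * (2 * k + 1) ≤ 2 * m + 1 := by
    intro k ⟨c, hc⟩ hk
    rcases Nat.lt_or_ge c 3 with hc3 | hc3
    · interval_cases c <;> omega
    · rw [hc, mul_comm 3]; exact Nat.mul_le_mul_left _ hc3
  have h1 := gcd_expo_le hl hm hd hi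
  have h2 := gcd_expo_le hl' hm hd' hi
  have t1 := three hd hlt
  have t2 := three hd' hlt'
  by_cases e : l = l'
  · subst e
    rw [Nat.lcm_self] at h
    rw [Nat.gcd_eq_left h] at h1
    have h3 : 2 * l + 1 < 2 ^ (2 * l + 1) := Nat.lt_two_pow_self
    have h4 : 2 ^ (2 * l + 2) * (2 * l + 1) < 2 ^ (2 * l + 2) * 2 ^ (2 * l + 1) :=
      Nat.mul_lt_mul_of_pos_left h3 (by positivity)
    rw [← pow_add] at h4
    have h5 : 2 ^ (2 * l + 2 + (2 * l + 1)) ≤ 2 ^ (2 * m) := Nat.pow_le_pow_right (by norm_num) (by omega)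
    omega
  · -- one of the two indices is at least five
    have five : 5 * (2 * l + 1) ≤ 2 * m + 1 ∨ 5 * (2 * l' + 1) ≤ 2 * m + 1 := by
      obtain ⟨c, hc⟩ := hd
      obtain ⟨c', hc'⟩ := hd'
      have hco : Odd c := (Nat.odd_mul.1 (show Odd ((2 * l + 1) * c) from ⟨m, hc.symm⟩)).2
      have hco' : Odd c' := (Nat.odd_mul.1 (show Odd ((2 * l' + 1) * c') from ⟨m, hc'.symm⟩)).2
      rcases Nat.lt_or_ge c 5 with h5 | h5
      · rcases Nat.lt_or_ge c' 5 with h5' | h5'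
        · exfalso
          obtain ⟨a, rfl⟩ := hco
          obtain ⟨b, rfl⟩ := hco'
          have : a ≤ 1 := by omega
          have : b ≤ 1 := by omega
          interval_cases a <;> interval_cases b <;> omega
        · right; rw [hc', mul_comm 5]; exact Nat.mul_le_mul_left _ h5'
      · left; rw [hc, mul_comm 5]; exact Nat.mul_le_mul_left _ h5
    set n := 2 * m + 1 with hn
    set a := 2 * l + 1 with ha
    set b := 2 * l' + 1 with hb'
    have hab : 15 * (a * b) ≤ n * n ∧ 15 * (a + b) ≤ 8 * n := by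
      rcases five with h5 | h5
      · refine ⟨?_, by omega⟩
        calc 15 * (a * b) = (5 * a) * (3 * b) := by ring
          _ ≤ n * n := Nat.mul_le_mul h5 t2
      · refine ⟨?_, by omega⟩
        calc 15 * (a * b) = (3 * a) * (5 * b) := by ring
          _ ≤ n * n := Nat.mul_le_mul t1 h5
    obtain ⟨d, hd⟩ : ∃ d, n = a + b + 3 + d := ⟨n - (a + b + 3), by omega⟩
    have hd4 : 4 ≤ d := by omega
    have k1 := sq_lt_two_pow d hd4
    have k2 : 7 * n ≤ 15 * (d + 3) := by omega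
    have k3 : (7 * n) ^ 2 ≤ (15 * (d + 3)) ^ 2 := Nat.pow_le_pow_left k2 2
    have k4 : a * b < 2 ^ d := by
      refine Nat.lt_of_mul_lt_mul_left (a := 735) ?_
      calc 735 * (a * b) = 49 * (15 * (a * b)) := by ring
        _ ≤ 49 * (n * n) := Nat.mul_le_mul_left _ hab.1
        _ = (7 * n) ^ 2 := by ring
        _ ≤ (15 * (d + 3)) ^ 2 := k3
        _ = 15 * (15 * (d + 3) ^ 2) := by ring
        _ < 15 * (49 * 2 ^ d) := Nat.mul_lt_mul_of_pos_left k1 (by norm_num)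
        _ = 735 * 2 ^ d := by ring
    have h3 : M m i ≤ (2 ^ (a + 1) * a) * (2 ^ (b + 1) * b) := by
      calc M m i ≤ Nat.gcd (M m i) (expo l) * Nat.gcd (M m i) (expo l') :=
            Nat.le_of_dvd (Nat.mul_pos (Nat.gcd_pos_of_pos_left _ (M_pos hm i))
              (Nat.gcd_pos_of_pos_left _ (M_pos hm i)))
              ((Nat.dvd_gcd dvd_rfl (h.trans (Nat.lcm_dvd_mul _ _))).trans (Nat.gcd_mul_right_dvd_mul_gcd _ _ _))
        _ ≤ _ := Nat.mul_le_mul (by rw [ha]; exact h1) (by rw [hb']; exact h2)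
    have h4 : (2 ^ (a + 1) * a) * (2 ^ (b + 1) * b) < 2 ^ (2 * m) := by
      rw [show (2 ^ (a + 1) * a) * (2 ^ (b + 1) * b) = 2 ^ (a + b + 2) * (a * b) by ring,
        show 2 * m = a + b + 2 + d by omega, pow_add 2 (a + b + 2)]
      exact Nat.mul_lt_mul_of_pos_left k4 (by positivity)
    omega

/-- The quotient of `x^t + 1` by `x + 1` for a prime `t`. -/
theorem exists_quot {x t : ℕ} (ht : t.Prime) (hodd : Odd t) :
    ∃ Q, (x + 1) * Q = x ^ t + 1 ∧ (∀ c : ℕ, c.Prime → c ∣ Q → c ∣ x + 1 → c = t) ∧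
      (t ∣ x + 1 → ¬ t ^ 2 ∣ Q) := by
  obtain ⟨Q, hQ⟩ : x + 1 ∣ x ^ t + 1 := by simpa using hodd.nat_add_dvd_pow_add_pow x 1
  refine ⟨Q, hQ.symm, ?_⟩
  have hsum : (Q : ℤ) = ∑ i ∈ Finset.range t, (-(x : ℤ)) ^ i := by
    have h1 := geom_sum_mul (-(x : ℤ)) t
    rw [hodd.neg_pow] at h1
    have h2 : ((x : ℤ) + 1) * Q = (x : ℤ) ^ t + 1 := by exact_mod_cast hQ.symm
    exact mul_left_cancel₀ (show ((x : ℤ) + 1) ≠ 0 by positivity) (by linear_combination h2 + h1)
  have hmod : ∀ {c : ℕ}, c ∣ x + 1 → ((c : ℤ)) ∣ (-(x : ℤ)) - 1 := fun {c} hc => by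
    have h : ((c : ℤ)) ∣ ((x + 1 : ℕ) : ℤ) := Int.natCast_dvd_natCast.2 hc
    push_cast at h
    rw [show (-(x : ℤ)) - 1 = -((x : ℤ) + 1) by ring]
    exact h.neg_right
  refine ⟨fun c hc hcQ hcx => ?_, fun htx ht2 => ?_⟩
  · have h1 : ((c : ℤ)) ∣ ∑ i ∈ Finset.range t, (-(x : ℤ)) ^ i * 1 ^ (t - 1 - i) := by
      simp only [one_pow, mul_one, ← hsum]
      exact Int.natCast_dvd_natCast.2 hcQ
    rw [dvd_geom_sum₂_iff_of_dvd_sub (hmod hcx)] at h1
    simp only [one_pow, mul_one, Int.natCast_dvd_natCast] at h1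
    exact (Nat.prime_dvd_prime_iff_eq hc ht).1 h1
  · obtain ⟨b, hb⟩ := hmod htx
    have h1 := odd_sq_dvd_geom_sum₂_sub (R := ℤ) (a := 1) (b := b) hodd
    rw [show (1 : ℤ) + (t : ℤ) * b = -(x : ℤ) by linear_combination -hb] at h1
    simp only [one_pow, mul_one, ← hsum] at h1
    have h2 : ((t : ℤ)) ^ 2 ∣ (Q : ℤ) := by exact_mod_cast Int.natCast_dvd_natCast.2 ht2
    have h3 := dvd_sub h2 h1
    rw [sub_sub_cancel] at h3
    have h4 : t ^ 2 ∣ t := by exact_mod_cast h3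
    have := Nat.le_of_dvd ht.pos h4
    nlinarith [ht.two_le]

/-- For `2m+1 ≠ 5` each torus order has a prime divisor prime to `2m+1`. -/
theorem exists_prime_torus {m : ℕ} (hm : 1 ≤ m) (hm2 : m ≠ 2) {i : Fin 4} (hi : i = 2 ∨ i = 3) :
    ∃ c : ℕ, c.Prime ∧ c ∣ M m i ∧ ¬ c ∣ 2 * m + 1 := by
  by_contra hcon
  push Not at hcon
  set n := 2 * m + 1 with hn
  have hi0 : i ≠ 0 := by rcases hi with rfl | rfl <;> decide
  have hn1 : n.primeFactors.Nonempty := Nat.nonempty_primeFactors.2 (by omega)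
  set t := n.primeFactors.max' hn1 with ht
  have htm := n.primeFactors.max'_mem hn1
  have htp : t.Prime := Nat.prime_of_mem_primeFactors htm
  obtain ⟨k, hk⟩ := Nat.dvd_of_mem_primeFactors htm
  rw [← ht] at hk
  have hto : Odd t := (Nat.odd_mul.1 (hk ▸ (⟨m, rfl⟩ : Odd n))).1
  have hko : Odd k := (Nat.odd_mul.1 (hk ▸ (⟨m, rfl⟩ : Odd n))).2
  set x := (2 ^ k) ^ 2 with hx
  have hxn : x ^ t = (2 ^ n) ^ 2 := by
    rw [hx, ← pow_mul, ← pow_mul, ← pow_mul, hk]; congr 1; ring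
  obtain ⟨Q, hQ, hQc, hQt⟩ := exists_quot (x := x) htp hto
  have hCN : M m i ∣ x ^ t + 1 := by
    rw [hxn, hn, ← tA_mul_tB hm]
    rcases hi with rfl | rfl
    · exact dvd_mul_right _ _
    · exact dvd_mul_left _ _
  -- the primes of the torus divide the small factor
  have hsmall : ∀ c : ℕ, c.Prime → c ∣ M m i → c ∣ x + 1 := by
    intro c hc hcM
    haveI := Fact.mk hc
    have h0 := (ZMod.natCast_eq_zero_iff _ c).2 (hcM.trans hCN)
    push_cast at h0
    have h1 : (-(x : ZMod c)) ^ t = 1 := by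
      rw [hto.neg_pow]; linear_combination -h0
    have hne : (-(x : ZMod c)) ≠ 0 := fun e => by
      rw [e, zero_pow htp.ne_zero] at h1
      exact zero_ne_one h1
    have h2 : orderOf (-(x : ZMod c)) ∣ t := orderOf_dvd_of_pow_eq_one h1
    rcases (Nat.dvd_prime htp).1 h2 with e | e
    · rw [orderOf_eq_one_iff] at e
      refine (ZMod.natCast_eq_zero_iff _ c).1 ?_
      push_cast
      linear_combination -e
    · exfalso
      have h3 := ZMod.orderOf_dvd_card_sub_one hne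
      rw [e] at h3
      have h4 : c ∈ n.primeFactors := Nat.mem_primeFactors.2 ⟨hc, hcon c hc hcM, by omega⟩
      have h5 := Finset.le_max' _ c h4
      rw [← ht] at h5
      have := Nat.le_of_dvd (by have := hc.two_le; omega) h3
      have := hc.two_le
      omega
  by_cases hk1 : k = 1
  · obtain ⟨c, hc, hcM⟩ := Nat.exists_prime_and_dvd (one_lt_M hm i).ne'
    have h5 : c ∣ 5 := by
      have := hsmall c hc hcM
      rw [hx, hk1] at this
      norm_num at this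
      exact this
    have hc5 := (Nat.prime_dvd_prime_iff_eq hc (by norm_num)).1 h5
    subst hc5
    have h6 := hcon 5 hc hcM
    rw [hk, hk1, mul_one, Nat.prime_dvd_prime_iff_eq (by norm_num) htp] at h6
    rw [← h6, hk1] at hk
    omega
  · have hk3 : 3 ≤ k := by obtain ⟨a, rfl⟩ := hko; omega
    set g := Nat.gcd (M m i) Q with hg
    have hgt : g ∣ t := by
      have hg0 : g ≠ 0 := (Nat.gcd_pos_of_pos_left _ (M_pos hm i)).ne'
      have hu : ∀ c : ℕ, c.Prime → c ∣ g → c = t := fun c hc hcg =>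
        hQc c hc (hcg.trans (Nat.gcd_dvd_right _ _)) (hsmall c hc (hcg.trans (Nat.gcd_dvd_left _ _)))
      have he := Nat.eq_prime_pow_of_unique_prime_dvd hg0 (fun {c} hc hcg => hu c hc hcg)
      rcases Nat.lt_or_ge g.primeFactorsList.length 2 with h | h
      · rw [he]
        exact (Nat.pow_dvd_pow t (by omega : g.primeFactorsList.length ≤ 1)).trans (pow_one t).dvd
      · exfalso
        have hd : t ^ 2 ∣ g := (Nat.pow_dvd_pow t h).trans he.symm.dvd
        exact hQt (hsmall t htp (((dvd_pow_self t two_ne_zero).trans hd).trans (Nat.gcd_dvd_left _ _)))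
          (hd.trans (Nat.gcd_dvd_right _ _))
    have hM : M m i ∣ (x + 1) * g := by
      rw [← hQ] at hCN
      exact (Nat.dvd_gcd dvd_rfl hCN).trans ((Nat.gcd_mul_right_dvd_mul_gcd _ _ _).trans
        (mul_dvd_mul_right (Nat.gcd_dvd_right _ _) _))
    have hle : M m i ≤ (x + 1) * t :=
      Nat.le_of_dvd (Nat.mul_pos (by omega) htp.pos) (hM.trans (mul_dvd_mul_left _ hgt))
    have hb := big_M hm hi0
    have ht3 : 3 ≤ t := by
      rcases Nat.lt_or_ge t 3 with h | h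
      · have h2 := htp.two_le
        have : t = 2 := by omega
        rw [this] at hto
        exact absurd hto (by decide)
      · exact h
    have hx2 : 4 ≤ x := by
      rw [hx, ← pow_mul, show (4 : ℕ) = 2 ^ 2 by norm_num]
      exact Nat.pow_le_pow_right (by norm_num) (by omega)
    have h6 : (x + 1) * t < x * 2 ^ (t - 1) := by
      by_cases h3 : t = 3
      · rw [h3]; norm_num; omega
      · have h2t : 2 * t ≤ 2 ^ (t - 1) := by
          have key : ∀ r, 3 ≤ r → 2 * (r + 1) ≤ 2 ^ r := by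
            intro r hr
            induction r, hr using Nat.le_induction with
            | base => norm_num
            | succ r hr ih => rw [pow_succ 2 r]; omega
          have := key (t - 1) (by omega)
          rwa [Nat.sub_add_cancel (by omega : 1 ≤ t)] at this
        calc (x + 1) * t < x * (2 * t) := by nlinarith
          _ ≤ _ := Nat.mul_le_mul_left _ h2t
    have h7 : x * 2 ^ (t - 1) ≤ 2 ^ (2 * m) := by
      rw [hx, ← pow_mul, ← pow_add]
      refine Nat.pow_le_pow_right (by norm_num) ?_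
      have a1 := Nat.mul_le_mul_right k ht3
      have a2 := Nat.mul_le_mul_left t hk3
      omega
    omega

end Cfsg.Agent.SzSquare
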