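import Cfsg.Agent.Lib.SzSquare.Comps

/-!
A product of two Suzuki groups, one over the whole field, has no abelian normal extension.
-/

set_option autoImplicit false
set_option linter.style.haveILetI false
set_option linter.unusedSectionVars false

namespace Cfsg.Agent.SzSquare

open Cfsg.Agent.Suzuki Subgroup
open scoped IsMulCommutative commutatorElement

universe u v

theorem Frob.map {A B : Type*} [Group A] [Group B] {C : Subgroup A} {u : A} {o : ℕ} (hF : Frob C u o)
    (f : A →* B) (hf : Function.Injective f) : Frob (C.map f) (f u) o := by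
  refine ⟨by rw [orderOf_injective f hf, hF.ord], le_normalizer_map f ⟨u, hF.norm, rfl⟩, ?_, fun e => hF.ne ?_⟩
  · rintro i hi hio _ ⟨c, hc, rfl⟩ he
    rw [hF.fpf i hi hio c hc (hf (by rw [map_mul, map_mul, map_pow]; exact he)), map_one]
  · exact (map_eq_bot_iff_of_injective _ hf).1 e

/-- A freely acting operator of a simple group fixes a non-trivial vector. -/
theorem fixed_or {S : Type*} [Group S] [Finite S] [IsSimpleGroup S] {V : Type*} [CommGroup V] [Nontrivial V]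
    (ρ : S →* MulAut V) {r : ℕ} [Fact r.Prime] (hV : ∀ v : V, v ^ r = 1) {C : Subgroup S} {u : S} {o : ℕ}
    (ho : 0 < o) (hF : Frob C u o) (hC : (Nat.card C).Coprime r) : ∃ v : V, v ≠ 1 ∧ ρ u v = v := by
  rcases (inferInstance : ρ.ker.Normal).eq_bot_or_eq_top with e | e
  · obtain ⟨c, hc, hc1⟩ := C.bot_or_exists_ne_one.resolve_left hF.ne
    exact exists_fixed ρ hV ho hF hC ⟨c, hc, fun h1 => hc1 (mem_bot.1 (e ▸ h1))⟩
  · obtain ⟨v, hv⟩ := exists_ne (1 : V)
    exact ⟨v, hv, by rw [show ρ u = 1 from e.ge (mem_top u), MulAut.one_apply]⟩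

/-- A simple group acts trivially if a non-trivial subgroup does. -/
theorem triv_of_sub {T A : Type*} [Group T] [IsSimpleGroup T] [Group A] (σ : T →* A) {C : Subgroup T}
    (hC : C ≠ ⊥) (hc : ∀ c ∈ C, σ c = 1) : ∀ t, σ t = 1 := by
  intro t
  rcases (inferInstance : σ.ker.Normal).eq_bot_or_eq_top with e | e
  · exact absurd ((eq_bot_iff_forall C).2 fun c hc' => mem_bot.1 (e ▸ hc c hc')) hC
  · exact e.ge (mem_top t)

/-- A non-trivial action of a factor gives a large order. -/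
theorem big_lift {E Y T : Type*} [Group E] [Group Y] [Finite Y] [Group T] (π : E →* Y)
    (hπ : Function.Surjective π) [IsMulCommutative π.ker] (hcen : π.ker ≤ centralizer (π.ker : Set E))
    {r : ℕ} [Fact r.Prime] (hVr : ∀ v ∈ π.ker, v ^ r = 1) (ρ : Y →* MulAut π.ker)
    (hρ : ∀ x (v : π.ker), ((ρ (π x) v : π.ker) : E) = x * v * x⁻¹) (j : T →* Y) (hj : Function.Injective j)
    {C : Subgroup T} {u : T} {o : ℕ} (ho : 0 < o) (hF : Frob C u o) (hC : (Nat.card C).Coprime r)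
    (hc : ∃ c ∈ C, ρ (j c) ≠ 1) : ∃ g : E, o * r ∣ orderOf g := by
  obtain ⟨y, hy⟩ := hπ (j u)
  refine exists_big_order π hπ π.ker hcen le_rfl hVr ρ hρ ho (hF.map j hj)
    (by rwa [card_map_of_injective hj]) ?_ hy (Or.inr ?_)
  · obtain ⟨c, hc, hc1⟩ := hc
    exact ⟨j c, mem_map_of_mem j hc, hc1⟩
  · rw [MonoidHom.mem_ker, map_pow, hy, ← map_pow, ← hF.ord, pow_orderOf_eq_one, map_one]

section Restrict

variable {S V : Type*} [Group S] [CommGroup V] (ρ : S →* MulAut V)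

/-- The fixed points of one operator. -/
def fixedSub (a : S) : Subgroup V where
  carrier := {v | ρ a v = v}
  one_mem' := map_one _
  mul_mem' {x y} hx hy := by
    show ρ a (x * y) = x * y
    rw [map_mul, show ρ a x = x from hx, show ρ a y = y from hy]
  inv_mem' {x} hx := by
    show ρ a x⁻¹ = x⁻¹
    rw [map_inv, show ρ a x = x from hx]

variable {T : Type*} [Group T] (σ : T →* MulAut V) (a : S) (hc : ∀ t v, ρ a (σ t v) = σ t (ρ a v))

/-- An action commuting with an operator acts on its fixed points. -/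
def onFixed : T →* MulAut (fixedSub ρ a) where
  toFun t :=
    { toFun := fun v => ⟨σ t v.1, by show ρ a (σ t v.1) = σ t v.1; rw [hc, show ρ a v.1 = v.1 from v.2]⟩
      invFun := fun v => ⟨σ t⁻¹ v.1, by show ρ a (σ t⁻¹ v.1) = σ t⁻¹ v.1; rw [hc, show ρ a v.1 = v.1 from v.2]⟩
      left_inv := fun v => Subtype.ext (by
        show σ t⁻¹ (σ t v.1) = v.1
        rw [← MulAut.mul_apply, ← map_mul, inv_mul_cancel, map_one, MulAut.one_apply])
      right_inv := fun v => Subtype.ext (by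
        show σ t (σ t⁻¹ v.1) = v.1
        rw [← MulAut.mul_apply, ← map_mul, mul_inv_cancel, map_one, MulAut.one_apply])
      map_mul' := fun v w => Subtype.ext (map_mul _ _ _) }
  map_one' := MulEquiv.ext fun v => Subtype.ext (by
    show σ 1 v.1 = v.1
    rw [map_one, MulAut.one_apply])
  map_mul' t t' := MulEquiv.ext fun v => Subtype.ext (by
    show σ (t * t') v.1 = σ t (σ t' v.1)
    rw [map_mul, MulAut.mul_apply])

end Restrict

variable {F : Type*} [Field F] [Fintype F] {m : ℕ} {K : Type*} [Field K] [Fintype K] {l : ℕ}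

/-- No abelian normal subgroup below `Sz(2^l) × Sz(q)`. -/
theorem chief_false (h : SzField F m) (hK : SzField K l) (hd : 2 * l + 1 ∣ 2 * m + 1) {E : Type u} [Group E]
    [Finite E] (hB : Bounded E m) (π : E →* Cfsg.Sz K l × Cfsg.Sz F m) (hπ : Function.Surjective π)
    [IsMulCommutative π.ker] {r : ℕ} [hr : Fact r.Prime] (hVr : ∀ v ∈ π.ker, v ^ r = 1) (hne : π.ker ≠ ⊥) :
    False := by
  have hm := h.one_le
  haveI := Suzuki.isSimple h
  haveI := Suzuki.isSimple hK
  haveI : Fact (Nat.Prime 2) := ⟨Nat.prime_two⟩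
  haveI : Nontrivial π.ker := (nontrivial_iff_ne_bot _).2 hne
  have hcen : π.ker ≤ centralizer (π.ker : Set E) := fun x hx => mem_centralizer_iff.2 fun y hy =>
    congrArg Subtype.val (mul_comm' (⟨y, hy⟩ : π.ker) ⟨x, hx⟩)
  obtain ⟨ρ, hρ⟩ := exists_rho π hπ π.ker hcen
  have hVr' : ∀ v : π.ker, v ^ r = 1 := fun v => Subtype.ext (hVr v v.2)
  set ρ1 := ρ.comp (MonoidHom.inl _ _)
  set ρ2 := ρ.comp (MonoidHom.inr _ _)
  obtain ⟨ir, hir⟩ : ∃ i, r ∣ M m i := by
    obtain ⟨x, hx, hx1⟩ := π.ker.bot_or_exists_ne_one.resolve_left hne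
    exact hB.exists_type hm hr.out (orderOf_eq_prime (hVr x hx) hx1 ▸ orderOf_dvd_natCard x)
  -- no vector fixed by elements of two other kinds
  have key : ∀ (a : Cfsg.Sz K l) (b : Cfsg.Sz F m) (v : π.ker), v ≠ 1 → ρ (a, b) v = v →
      ∀ {i j : Fin 4}, i ≠ j → i ≠ ir → j ≠ ir → ∀ {x y : ℕ}, x ∣ M m i → y ∣ M m j → x ≠ 1 → y ≠ 1 →
        x ∣ orderOf a → y ∣ orderOf b → False := by
    intro a b v hv hfix i j hij hiir hjir x y hx hy hx1 hy1 hxa hyb
    obtain ⟨e, he⟩ := hπ (a, b)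
    have h1 : orderOf (a, b) ∣ orderOf e := he ▸ orderOf_map_dvd π e
    rw [Prod.orderOf_mk] at h1
    have hcv : Commute e (v : E) := by
      have h2 := hρ e v
      rw [he, hfix] at h2
      exact (eq_mul_inv_iff_mul_eq.1 h2).symm
    exact hB.three_commute hm hij hiir hjir hx hy hir hx1 hy1 hr.out.ne_one
      (hxa.trans ((Nat.dvd_lcm_left _ _).trans h1)) (hyb.trans ((Nat.dvd_lcm_right _ _).trans h1))
      (dvd_of_eq (orderOf_eq_prime (hVr _ v.2) (fun e' => hv (Subtype.ext e'))).symm)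
      (Commute.refl e) hcv hcv
  have hsplit : ∀ (a : Cfsg.Sz K l) (b : Cfsg.Sz F m) v, ρ (a, b) v = ρ1 a (ρ2 b v) := fun a b v => by
    show ρ (a, b) v = ρ (a, 1) (ρ (1, b) v)
    rw [← MulAut.mul_apply, ← map_mul, Prod.mk_mul_mk, mul_one, one_mul]
  have hodd : ∀ {i : Fin 4}, i ≠ 0 → ∀ {d}, d ∣ M m i → d.Coprime 2 := fun hi _ hd =>
    (Nat.coprime_two_right.2 ((M_odd hm hi).of_dvd_nat hd))
  obtain ⟨iC, hiC, h5⟩ := five_kind hm
  obtain ⟨w5, hw5⟩ : ∃ w : Cfsg.Sz K l, orderOf w = 5 := ⟨_, (five hK).1⟩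
  have hql : M l 1 ∣ M m 1 := Nat.pow_sub_one_dvd_pow_sub_one 2 hd
  by_cases hr0 : ir = 0
  · subst hr0
    have hr2 : r = 2 := (Nat.prime_dvd_prime_iff_eq hr.out Nat.prime_two).1
      (hr.out.dvd_of_dvd_pow (show r ∣ 2 ^ 2 from hir))
    subst hr2
    obtain ⟨C1, hC1, -⟩ := exists_member_kind hK (i := 2) (Or.inl rfl)
    obtain ⟨C2, hC2, hc2⟩ := exists_member_kind h (i := 2) (Or.inl rfl)
    obtain ⟨u1, hu1⟩ := frob_member hK hC1
    obtain ⟨u2, hu2⟩ := frob_member h hC2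
    have e1 : ∀ t, ρ1 t = 1 := triv_of_sub ρ1 hu1.ne fun c hc => by
      by_contra hne1
      obtain ⟨g, hg⟩ := big_lift π hπ hcen hVr ρ hρ (MonoidHom.inl _ _) (fun a b e => congrArg Prod.fst e) (by norm_num) hu1
        (Nat.coprime_two_right.2 (Nat.odd_iff.2 (Nat.two_dvd_ne_zero.1 (torType_member hK hC1).odd)))
        ⟨c, hc, hne1⟩
      exact hB.not_eight hm g (by simpa using hg)
    have e2 : ∀ t, ρ2 t = 1 := triv_of_sub ρ2 hu2.ne fun c hc => by
      by_contra hne1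
      obtain ⟨g, hg⟩ := big_lift π hπ hcen hVr ρ hρ (MonoidHom.inr _ _) (fun a b e => congrArg Prod.snd e) (by norm_num) hu2
        (Nat.coprime_two_right.2 (Nat.odd_iff.2 (Nat.two_dvd_ne_zero.1 (torType_member h hC2).odd)))
        ⟨c, hc, hne1⟩
      exact hB.not_eight hm g (by simpa using hg)
    obtain ⟨v, hv⟩ := exists_ne (1 : π.ker)
    obtain ⟨p, hp⟩ := exists_order h 1
    exact key w5 p v hv (by rw [hsplit, e1, e2, MulAut.one_apply, MulAut.one_apply]) (i := iC) (j := 1)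
      (by rcases hiC with rfl | rfl <;> decide) (by rcases hiC with rfl | rfl <;> decide) (by decide) h5 dvd_rfl
      (by norm_num) (one_lt_M hm 1).ne' (dvd_of_eq hw5.symm) (dvd_of_eq hp.symm)
  by_cases hr1 : ir = 1
  · subst hr1
    have e2 : ∀ t, ρ2 t = 1 := by
      by_contra hne2
      set a := (M m 1).factorization r
      have ha : 0 < a := hr.out.factorization_pos_of_dvd (M_pos hm 1).ne' hir
      obtain ⟨u, hu⟩ := frob_z h (o := r ^ a) (Nat.ordProj_dvd _ _)
      obtain ⟨c, hc, hc1⟩ : ∃ c ∈ zGroup h, ρ2 c ≠ 1 := by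
        by_contra hall
        push Not at hall
        exact hne2 (triv_of_sub ρ2 hu.ne hall)
      obtain ⟨g, hg⟩ := big_lift π hπ hcen hVr ρ hρ (MonoidHom.inr _ _) (fun a b e => congrArg Prod.snd e) (pow_pos hr.out.pos a) hu
        (by rw [card_zGroup]; exact (hodd (i := 1) (by decide) hir).symm.pow_left _) ⟨c, hc, hc1⟩
      rw [← pow_succ] at hg
      exact hB.not_pow_dvd hm hr.out hir (Nat.pow_succ_factorization_not_dvd (M_pos hm 1).ne' hr.out) g hg
    obtain ⟨C1, hC1, hc1⟩ := exists_member_kind hK (i := 2) (Or.inl rfl)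
    obtain ⟨u1, hu1⟩ := frob_member hK hC1
    obtain ⟨v, hv, hfix⟩ := fixed_or ρ1 hVr' (by norm_num) hu1 (by
      rw [hc1]
      refine Nat.Coprime.coprime_dvd_right hir ?_
      exact ((coprime_mer m (2 * l + 1)).coprime_dvd_right (Dvd.intro _ (SzMaxOrd.tA_mul_tB hK.one_le))).symm)
    exact key u1 (W h * T h 0 1) v hv (by rw [hsplit, e2, MulAut.one_apply, hfix]) (i := 0) (j := iC)
      (by rcases hiC with rfl | rfl <;> decide) (by decide) (by rcases hiC with rfl | rfl <;> decide) dvd_rfl h5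
      (by rw [M0]; norm_num) (by norm_num) (by rw [hu1.ord, M0]) (by rw [(five h).1])
  · -- the prime lies in a torus of order `q ± √(2q) + 1`
    have hrne : (M l 1).Coprime r :=
      ((M_coprime hm (i := 1) (j := ir) (Ne.symm hr1)).coprime_dvd_left hql).coprime_dvd_right hir
    obtain ⟨v0, hv0, hfix0⟩ := fixed_or ρ1 hVr' (by norm_num) (frob_w hK) (by rw [card_torus]; exact hrne)
    have hcomm : ∀ t v, ρ1 (W hK) (ρ2 t v) = ρ2 t (ρ1 (W hK) v) := fun t v => by
      show ρ (W hK, 1) (ρ (1, t) v) = ρ (1, t) (ρ (W hK, 1) v)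
      rw [← MulAut.mul_apply, ← MulAut.mul_apply, ← map_mul, ← map_mul, Prod.mk_mul_mk, Prod.mk_mul_mk]
      simp
    haveI : Nontrivial (fixedSub ρ1 (W hK)) := ⟨⟨⟨v0, hfix0⟩, 1, fun e => hv0 (congrArg Subtype.val e)⟩⟩
    obtain ⟨u, hu⟩ := frob_z h (o := M m 1) dvd_rfl
    obtain ⟨v, hv, hfix⟩ := fixed_or (onFixed ρ1 ρ2 (W hK) hcomm) (r := r)
      (fun v => Subtype.ext (hVr' v.1)) (M_pos hm 1) hu
      (by rw [card_zGroup]; exact (hodd hr0 hir).symm.pow_left _)
    have h2 : ρ2 u v.1 = v.1 := congrArg Subtype.val hfix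
    exact key (W hK) u v.1 (fun e => hv (Subtype.ext e)) (by rw [hsplit, h2]; exact v.2) (i := 0) (j := 1)
      (by decide) (Ne.symm hr0) (Ne.symm hr1) (show 2 ∣ M m 0 from ⟨2, rfl⟩) dvd_rfl (by norm_num)
      (one_lt_M hm 1).ne' (by rw [(frob_w hK).ord]) (by rw [hu.ord])

end Cfsg.Agent.SzSquare
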