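import Cfsg.Agent.Lib.SzSquare.One
import Cfsg.Agent.Lib.ThreePrime.ConsumersBasic
import Cfsg.Agent.Lib.Components.FStar
import Cfsg.Agent.Lib.Suzuki.Minor

/-!
The components of a group with trivial radical and the spectral bound.
-/

set_option autoImplicit false
set_option linter.style.haveILetI false
set_option linter.unusedSectionVars false

namespace Cfsg.Agent.SzSquare

open Cfsg.Agent.Suzuki Subgroup
open scoped IsMulCommutative commutatorElement

universe u v

theorem five_kind {m : ℕ} (hm : 1 ≤ m) : ∃ i : Fin 4, (i = 2 ∨ i = 3) ∧ 5 ∣ M m i := by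
  have h5 : 5 ∣ (2 ^ (2 * m + 1)) ^ 2 + 1 := by
    rw [← pow_mul, mul_comm, pow_mul, pow_succ, pow_mul, Nat.dvd_iff_mod_eq_zero, Nat.add_mod,
      Nat.mul_mod, Nat.pow_mod]
    norm_num
  rw [← SzMaxOrd.tA_mul_tB hm] at h5
  rcases (Nat.prime_five.dvd_mul).1 h5 with e | e
  · exact ⟨2, Or.inl rfl, e⟩
  · exact ⟨3, Or.inr rfl, e⟩

section Copy

variable {X : Type u} [Group X] {K : Type*} [Field K] [Fintype K] {l : ℕ} (hK : SzField K l)
  {f : Cfsg.Sz K l →* X} (hf : Function.Injective f)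

include hf in
/-- Conjugation inside the normaliser as automorphisms of the copy. -/
theorem exists_act : ∃ A : normalizer (f.range : Set X) →* MulAut (Cfsg.Sz K l),
    ∀ (g : normalizer (f.range : Set X)) s, f (A g s) = g * f s * (g : X)⁻¹ := by
  let e : Cfsg.Sz K l ≃* f.range := MonoidHom.ofInjective hf
  refine ⟨(MulAut.congr e.symm).toMonoidHom.comp f.range.normalizerMonoidHom, fun g s => ?_⟩
  have he : ∀ t, ((e t : f.range) : X) = f t := fun t => rfl
  rw [← he, ← he]
  show ((e (e.symm (f.range.normalizerMonoidHom g (e s))) : f.range) : X) = _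
  rw [e.apply_symm_apply]
  rfl

end Copy

variable {X : Type u} [Group X] [Finite X] {m : ℕ}

/-- A copy of a Suzuki group with degree dividing `2m+1`. -/
def IsCopy (m : ℕ) (L : Subgroup X) : Prop :=
  ∃ (K : Type) (_ : Field K) (_ : Fintype K) (l : ℕ), SzField K l ∧ 2 * l + 1 ∣ 2 * m + 1 ∧
    ∃ f : Cfsg.Sz K l →* X, Function.Injective f ∧ f.range = L

variable (hm : 1 ≤ m) (hrad : Components.solvRadical X = ⊥) (hB : Bounded X m)

include hm hrad hB in
theorem component_copy (hSz : ThreePrime.SimpleSz.{u}) {L : Subgroup X} (hL : Cfsg.IsComponent L) :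
    IsCopy m L := by
  have hc : center L = ⊥ := by
    have h1 : center L ≤ Components.solvRadical L := Components.le_solvRadical inferInstance
      (Group.isSolvable_of_comm fun a b => mul_comm' a b)
    have h2 := (map_mono h1).trans (Components.solvRadical_map_le_of_subnormal hL.1)
    rw [hrad, le_bot_iff, map_eq_bot_iff_of_injective _ L.subtype_injective] at h2
    exact h2
  haveI := hL.2.2
  haveI : IsSimpleGroup L :=
    ((QuotientGroup.quotientMulEquivOfEq hc).trans QuotientGroup.quotientBot).symm.isSimpleGroup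
  have hna : ∃ a b : L, a * b ≠ b * a := by
    by_contra hall
    push Not at hall
    exact Components.quasisimple_not_commutative hL.2 ⟨⟨hall⟩⟩
  obtain ⟨K, i1, i2, l, hl, hK, ⟨e⟩⟩ := hSz L hna ((hB.sub L).not_three_dvd hm)
  have h : SzField K l := ⟨hl, hK⟩
  let e' : Cfsg.Sz K l ≃* L := (Suzuki.minorEquiv h).trans e.symm
  refine ⟨K, i1, i2, l, h, ?_, L.subtype.comp e'.toMonoidHom, L.subtype_injective.comp e'.injective, ?_⟩
  · obtain ⟨g, hg⟩ := exists_order h 1
    obtain ⟨i, j, hij, hd⟩ := hB (e' g : X)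
    rw [Subgroup.orderOf_coe, MulEquiv.orderOf_eq, hg, M1] at hd
    exact degree_dvd hm hij hd
  · rw [MonoidHom.range_comp, MonoidHom.range_eq_top.2 e'.surjective, ← MonoidHom.range_eq_map, range_subtype]

include hm hrad hB in
/-- At most two components. -/
theorem no_three (hSz : ThreePrime.SimpleSz.{u}) {L₁ L₂ L₃ : Subgroup X} (h1 : Cfsg.IsComponent L₁)
    (h2 : Cfsg.IsComponent L₂) (h3 : Cfsg.IsComponent L₃) (h12 : L₁ ≠ L₂) (h13 : L₁ ≠ L₃) (h23 : L₂ ≠ L₃) :
    False := by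
  have hcomm : ∀ {A B : Subgroup X}, Cfsg.IsComponent A → Cfsg.IsComponent B → A ≠ B → ∀ a ∈ A, ∀ b ∈ B,
      Commute a b := fun hA hB hne a ha b hb =>
    (mem_centralizer_iff.1 (commutator_eq_bot_iff_le_centralizer.1 (Components.components_commute hA hB hne) ha)
      b hb).symm
  obtain ⟨K₁, _, _, l₁, k₁, -, f₁, hf₁, r₁⟩ := component_copy hm hrad hB hSz h1
  obtain ⟨K₂, _, _, l₂, k₂, -, f₂, hf₂, r₂⟩ := component_copy hm hrad hB hSz h2
  obtain ⟨K₃, _, _, l₃, k₃, hd₃, f₃, hf₃, r₃⟩ := component_copy hm hrad hB hSz h3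
  obtain ⟨a, ha⟩ := exists_order k₁ 0
  obtain ⟨b, hb⟩ : ∃ b : Cfsg.Sz K₂ l₂, orderOf b = 5 := ⟨_, (five k₂).1⟩
  obtain ⟨c, hc⟩ := exists_order k₃ 1
  obtain ⟨i, hi, h5⟩ := five_kind hm
  have ma : f₁ a ∈ L₁ := r₁ ▸ ⟨a, rfl⟩
  have mb : f₂ b ∈ L₂ := r₂ ▸ ⟨b, rfl⟩
  have mc : f₃ c ∈ L₃ := r₃ ▸ ⟨c, rfl⟩
  exact hB.three_commute hm (i₁ := 0) (i₂ := i) (i₃ := 1) (by rcases hi with rfl | rfl <;> decide) (by decide)
    (by rcases hi with rfl | rfl <;> decide) (a := 4) (b := 5) (c := 2 ^ (2 * l₃ + 1) - 1) dvd_rfl h5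
    (Nat.pow_sub_one_dvd_pow_sub_one 2 hd₃) (by norm_num) (by norm_num) (one_lt_M k₃.one_le 1).ne'
    (x := f₁ a) (y := f₂ b) (z := f₃ c) (by rw [orderOf_injective f₁ hf₁, ha, M0])
    (by rw [orderOf_injective f₂ hf₂, hb]) (by rw [orderOf_injective f₃ hf₃, hc, M1])
    (hcomm h1 h2 h12 _ ma _ mb) (hcomm h1 h3 h13 _ ma _ mc) (hcomm h2 h3 h23 _ mb _ mc)

include hrad in
/-- Only the identity centralises every component. -/
theorem eq_one_of_centralises {g : X}
    (hg : ∀ L : Subgroup X, Cfsg.IsComponent L → ∀ x ∈ L, g * x = x * g) : g = 1 := by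
  haveI := Components.layer_normal (G := X)
  have hfit : Cfsg.fittingSubgroup X = ⊥ := le_bot_iff.1 (hrad ▸ Components.fitting_le_solvRadical)
  have hF : Cfsg.generalizedFittingSubgroup X = Cfsg.layer X := by
    rw [Cfsg.generalizedFittingSubgroup, hfit, sup_bot_eq]
  have hle := Components.centralizer_generalizedFitting_le (G := X)
  rw [hF] at hle
  set Z := Cfsg.layer X ⊓ centralizer (Cfsg.layer X : Set X)
  have hZ : Z = ⊥ := le_bot_iff.1 (hrad ▸ Components.le_solvRadical (inferInstance : Z.Normal)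
    (Group.isSolvable_of_comm fun a b => Subtype.ext (mem_centralizer_iff.1 b.2.2 _ a.2.1)))
  have hc : g ∈ centralizer (Cfsg.layer X : Set X) := by
    have h1 : Cfsg.layer X ≤ centralizer ({g} : Set X) := Components.layer_le_iff.2 fun L hL x hx =>
      mem_centralizer_singleton_iff.2 (hg L hL x hx).symm
    exact mem_centralizer_iff.2 fun x hx => mem_centralizer_singleton_iff.1 (h1 hx)
  exact mem_bot.1 (hZ ▸ (⟨hle hc, hc⟩ : g ∈ Z))

include hm hrad hB in
/-- Exactly one or exactly two components. -/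
theorem comps_cases (hSz : ThreePrime.SimpleSz.{u}) [Nontrivial X] :
    (∃ L, Cfsg.IsComponent L ∧ ∀ M' : Subgroup X, Cfsg.IsComponent M' → M' = L) ∨
      ∃ L₁ L₂, Cfsg.IsComponent L₁ ∧ Cfsg.IsComponent L₂ ∧ L₁ ≠ L₂ ∧
        ∀ M' : Subgroup X, Cfsg.IsComponent M' → M' = L₁ ∨ M' = L₂ := by
  obtain ⟨L, hL⟩ : ∃ L : Subgroup X, Cfsg.IsComponent L := by
    by_contra hno
    push Not at hno
    obtain ⟨g, hg⟩ := exists_ne (1 : X)
    exact hg (eq_one_of_centralises hrad fun L hL => absurd hL (hno L))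
  by_cases h : ∀ M' : Subgroup X, Cfsg.IsComponent M' → M' = L
  · exact Or.inl ⟨L, hL, h⟩
  · push Not at h
    obtain ⟨L₂, h2, hne⟩ := h
    refine Or.inr ⟨L, L₂, hL, h2, hne.symm, fun M' hM' => ?_⟩
    by_contra hno
    push Not at hno
    exact no_three hm hrad hB hSz hL h2 hM' hne.symm hno.1.symm hno.2.symm

/-- Conjugation preserves components. -/
theorem map_conj_component {L : Subgroup X} (hL : Cfsg.IsComponent L) (g : X) :
    Cfsg.IsComponent (L.map (MulAut.conj g).toMonoidHom) := Components.component_conj hL g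

theorem mem_normalizer_of_map_conj {L : Subgroup X} {g : X} (h : L.map (MulAut.conj g).toMonoidHom = L) :
    g ∈ normalizer (L : Set X) := by
  refine mem_normalizer_fintype fun x hx => ?_
  rw [SetLike.mem_coe] at hx ⊢
  rw [← h]
  exact ⟨x, hx, rfl⟩

include hm hrad hB in
/-- An automorphism exponent for a normalised component. -/
theorem pow_expo_centralises {K : Type} [Field K] [Fintype K] {l : ℕ} (hK : SzField K l)
    {f : Cfsg.Sz K l →* X} (hf : Function.Injective f) {g : X} (hg : g ∈ normalizer (f.range : Set X))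
    {e : ℕ} (he : expo l ∣ e) : ∀ x ∈ f.range, g ^ e * x = x * g ^ e := by
  obtain ⟨A, hA⟩ := exists_act hf
  have h1 : A (⟨g, hg⟩ ^ e) = 1 := by
    obtain ⟨c, rfl⟩ := he
    rw [map_pow, pow_mul, aut_expo hK, one_pow]
  rintro _ ⟨s, rfl⟩
  have h2 := hA (⟨g, hg⟩ ^ e) s
  rw [h1, MulAut.one_apply] at h2
  exact (eq_mul_inv_iff_mul_eq.1 h2).symm

end Cfsg.Agent.SzSquare
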