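import Cfsg.Agent.Lib.SzSquare.Norm
import Cfsg.Agent.Lib.Solvable.Gaschutz
import Cfsg.Agent.Lib.Solvable.Structure
import Cfsg.Agent.Lib.FGStruct.MaximalCount

/-!
Minimal covers of `Sz(q)` in a group with the spectral bound: the kernel is a central `2`-group.
-/

set_option autoImplicit false
set_option linter.style.haveILetI false
set_option linter.unusedSectionVars false

namespace Cfsg.Agent.SzSquare

open Cfsg.Agent.Suzuki Subgroup
open scoped IsMulCommutative commutatorElement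

universe u

variable {F : Type*} [Field F] [Fintype F] {m : ℕ} (h : SzField F m)

/-- No proper subgroup covers the quotient. -/
def IsMin {K : Type*} [Group K] (π : K →* Cfsg.Sz F m) : Prop :=
  ∀ M : Subgroup K, M.map π = ⊤ → M = ⊤

variable {K : Type u} [Group K] [Finite K] {π : K →* Cfsg.Sz F m} (hπ : Function.Surjective π)
  (hmin : IsMin π) (hB : Bounded K m)

include h hπ in
/-- A lift which is a `w`-element. -/
theorem exists_plift {w b : ℕ} [hw : Fact w.Prime] {g : Cfsg.Sz F m} (hg : orderOf g = w ^ b) :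
    ∃ y, π y = g ∧ ∃ a, orderOf y = w ^ a ∧ b ≤ a := by
  obtain ⟨y0, rfl⟩ := hπ g
  have ho := orderOf_pos y0
  obtain ⟨a, e, he, hae⟩ := Nat.exists_eq_pow_mul_and_not_dvd ho.ne' w hw.out.ne_one
  have hc : (orderOf (π y0)).Coprime e := by
    rw [hg]; exact ((hw.out.coprime_iff_not_dvd.2 he).pow_left b)
  obtain ⟨f, hf⟩ := exists_pow_eq_self_of_coprime (x := π y0) (n := e) hc.symm
  have hd : orderOf ((y0 ^ e) ^ f) ∣ w ^ a := orderOf_dvd_of_pow_eq_one (by
    rw [← pow_mul, ← pow_mul, show e * (f * w ^ a) = w ^ a * e * f by ring, pow_mul, ← hae,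
      pow_orderOf_eq_one, one_pow])
  obtain ⟨j, -, hj⟩ := (Nat.dvd_prime_pow hw.out).1 hd
  refine ⟨(y0 ^ e) ^ f, by rw [map_pow, map_pow, hf], j, hj, ?_⟩
  have h2 := orderOf_map_dvd π ((y0 ^ e) ^ f)
  rw [map_pow, map_pow, hf, hg, hj, Nat.pow_dvd_pow_iff_le_right hw.out.one_lt] at h2
  exact h2

include h hπ hmin in
theorem ker_le_frattini : π.ker ≤ frattini K := by
  refine le_iInf₂ fun M hM => ?_
  by_contra hno
  have htop : M ⊔ π.ker = ⊤ := hM.2 _ (lt_of_le_of_ne le_sup_left fun e => hno (e ▸ le_sup_right))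
  refine hM.1 (hmin M ?_)
  have h1 := congrArg (Subgroup.map π) htop
  rw [Subgroup.map_sup, (Subgroup.map_eq_bot_iff _).2 le_rfl, sup_bot_eq, map_top_of_surjective π hπ] at h1
  exact h1

include h hπ hmin in
theorem ker_nilpotent : Group.IsNilpotent π.ker := by
  haveI := frattini_nilpotent (G := K)
  exact Group.nilpotent_of_mulEquiv (subgroupOfEquivOfLe (ker_le_frattini h hπ hmin))

omit [Finite K] in
include h in
theorem sz_not_comm : commutator (Cfsg.Sz F m) = ⊤ := by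
  haveI := Suzuki.isSimple h
  refine ((inferInstance : (commutator (Cfsg.Sz F m)).Normal).eq_bot_or_eq_top).resolve_left fun e => ?_
  have h1 := T_mem_commutator h (1 : F) 0
  rw [e, mem_bot] at h1
  exact one_ne_zero ((eq_one_iff_T h).1 h1).1

include h hπ hmin in
theorem perfect : ⁅(⊤ : Subgroup K), (⊤ : Subgroup K)⁆ = ⊤ := by
  refine hmin _ ?_
  rw [map_commutator, map_top_of_surjective π hπ]
  exact sz_not_comm h

include h hπ hmin in
/-- A homomorphism trivial on an element outside the kernel is trivial. -/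
theorem hom_eq_one {Y : Type*} [Group Y] (φ : K →* Y) {x : K} (hx : π x ≠ 1) (hφ : φ x = 1) :
    ∀ k, φ k = 1 := by
  haveI := Suzuki.isSimple h
  have hn : (φ.ker.map π).Normal := (inferInstance : φ.ker.Normal).map π hπ
  rcases hn.eq_bot_or_eq_top with e | e
  · exact absurd (mem_bot.1 (e ▸ mem_map_of_mem π (show x ∈ φ.ker from hφ))) hx
  · intro k
    exact (hmin _ e).ge (mem_top k)

/-! ### The kernel is a `2`-group -/

include h hπ hmin hB in
theorem ker_two {w : ℕ} (hw : w.Prime) (hd : w ∣ Nat.card π.ker) : w = 2 := by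
  by_contra hw2
  haveI := Fact.mk hw
  haveI := ker_nilpotent h hπ hmin
  set Z := π.ker
  obtain ⟨W, ⟨hWn, hWZ, hwd⟩, hmax⟩ := (Set.toFinite {W : Subgroup K | W.Normal ∧ W ≤ Z ∧
    w ∣ W.relIndex Z}).exists_maximal ⟨⊥, inferInstance, bot_le, by rwa [relIndex_bot_left]⟩
  haveI := hWn
  let φ := QuotientGroup.mk' W
  have hφ : Function.Surjective φ := QuotientGroup.mk'_surjective W
  let π' : K ⧸ W →* Cfsg.Sz F m := QuotientGroup.lift W π hWZ
  have hπ' : Function.Surjective π' := fun g => by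
    obtain ⟨k, rfl⟩ := hπ g
    exact ⟨φ k, rfl⟩
  have hmin' : IsMin π' := fun M hM => by
    have h1 : (M.comap φ).map π = ⊤ := by
      rw [← hM]
      ext g
      constructor
      · rintro ⟨k, hk, rfl⟩; exact ⟨φ k, hk, rfl⟩
      · rintro ⟨x, hx, rfl⟩
        obtain ⟨k, rfl⟩ := hφ x
        exact ⟨k, hx, rfl⟩
    exact comap_injective hφ ((hmin _ h1).trans (comap_top φ).symm)
  have hB' : Bounded (K ⧸ W) m := hB.quot φ hφ
  set V := π'.ker with hV
  have hVZ : V = Z.map φ := by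
    ext x
    obtain ⟨k, rfl⟩ := hφ x
    refine ⟨fun hx => ⟨k, hx, rfl⟩, ?_⟩
    rintro ⟨z, hz, e⟩
    show π' (φ k) = 1
    rw [← e]; exact hz
  have hcV : Nat.card V = W.relIndex Z := by
    rw [hVZ, ← relIndex_ker, QuotientGroup.ker_mk']
  -- `V` has no proper non-trivial normal subgroup of index divisible by `w`
  have hchief : ∀ U : Subgroup (K ⧸ W), U.Normal → U ≤ V → w ∣ U.relIndex V → U = ⊥ := by
    intro U hU hUV hd
    have h1 : (U.comap φ).relIndex Z = U.relIndex V := by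
      rw [hVZ, relIndex_comap]
    have h2 : U.comap φ ≤ Z := fun k hk => hUV hk
    have h3 := hmax ⟨hU.comap φ, h2, h1 ▸ hd⟩ (fun k hk => by
      rw [mem_comap, show φ k = 1 from (QuotientGroup.eq_one_iff k).2 hk]; exact one_mem U)
    rw [← map_comap_eq_self_of_surjective hφ U, eq_bot_iff]
    exact (map_mono h3).trans ((Subgroup.map_eq_bot_iff _).2 (QuotientGroup.ker_mk' W).ge).le
  haveI hVnil : Group.IsNilpotent V := ker_nilpotent h hπ' hmin'
  have hpV : IsPGroup w V := by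
    refine IsPGroup.of_card (n := (Nat.card V).primeFactorsList.length) ?_
    refine Nat.eq_prime_pow_of_unique_prime_dvd Nat.card_pos.ne' ?_
    · intro t ht htd
      by_contra htw
      haveI := Fact.mk ht
      obtain ⟨Q⟩ : Nonempty (Sylow t V) := inferInstance
      have hQc : (Q : Subgroup V).Characteristic := Sylow.characteristic_of_normal Q inferInstance
      have hQn : ((Q : Subgroup V).map V.subtype).Normal := inferInstance
      have h1 := hchief _ hQn (map_subtype_le _) (by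
        show w ∣ (((Q : Subgroup V).map V.subtype).subgroupOf V).index
        rw [show ((Q : Subgroup V).map V.subtype).subgroupOf V = (Q : Subgroup V) from
          comap_map_eq_self_of_injective V.subtype_injective _]
        have h2 := (Q : Subgroup V).card_mul_index
        rcases hw.dvd_mul.1 (h2.symm ▸ hcV ▸ hwd) with h3 | h3
        · obtain ⟨k, hk⟩ := IsPGroup.iff_card.1 Q.2
          rw [hk] at h3
          exact absurd ((Nat.prime_dvd_prime_iff_eq hw ht).1 (hw.dvd_of_dvd_pow h3)) (Ne.symm htw)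
        · exact h3)
      rw [map_eq_bot_iff_of_injective _ V.subtype_injective] at h1
      exact Q.ne_bot_of_dvd_card htd h1
  have hVne : V ≠ ⊥ := fun e => by
    rw [e, card_bot] at hcV
    exact hw.ne_one (Nat.dvd_one.1 (hcV ▸ hwd))
  -- `V` is elementary abelian
  have hPhi : frattini V = ⊥ := by
    by_contra hne
    haveI : Nontrivial V := (nontrivial_iff_ne_bot V).2 hVne
    have hn : ((frattini V).map V.subtype).Normal := inferInstance
    refine hne ((map_eq_bot_iff_of_injective _ V.subtype_injective).1 (hchief _ hn (map_subtype_le _) ?_))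
    show w ∣ (((frattini V).map V.subtype).subgroupOf V).index
    rw [show ((frattini V).map V.subtype).subgroupOf V = frattini V from
      comap_map_eq_self_of_injective V.subtype_injective _]
    have hne_top : frattini V ≠ ⊤ := fun e => by
      have h1 := frattini_nongenerating (G := V) (K := ⊥) (by rw [e, bot_sup_eq])
      exact (bot_ne_top (α := Subgroup V)) h1
    obtain ⟨j, hj⟩ := (IsPGroup.iff_card.1 hpV)
    obtain ⟨i, -, hi⟩ := (Nat.dvd_prime_pow hw).1 (hj ▸ index_dvd_card (frattini V))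
    rcases Nat.eq_zero_or_pos i with rfl | hi0
    · rw [pow_zero, index_eq_one] at hi; exact absurd hi hne_top
    · exact hi ▸ dvd_pow_self w hi0.ne'
  have hVc : ∀ a b : V, a * b = b * a := fun a b => by
    have h1 := MaximalCount.comm_mem_frattini hpV a b
    rw [hPhi, mem_bot] at h1
    exact commutatorElement_eq_one_iff_mul_comm.1 (by rw [commutatorElement_def]; exact h1)
  haveI : IsMulCommutative V := ⟨⟨hVc⟩⟩
  have hVw : ∀ v ∈ V, v ^ w = 1 := fun v hv => by
    have h1 := MaximalCount.mem_frattini_pow hpV ⟨v, hv⟩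
    rw [hPhi, mem_bot] at h1
    exact congrArg Subtype.val h1
  haveI : V.Normal := MonoidHom.normal_ker π'
  -- a Sylow `w`-element of full order in the quotient
  have hwG : w ∣ Nat.card K := hd.trans (card_subgroup_dvd_card Z)
  obtain ⟨i, hi⟩ := hB.exists_type h.one_le hw hwG
  have hi0 : i ≠ 0 := fun e => by
    subst e
    exact hw2 ((Nat.prime_dvd_prime_iff_eq hw Nat.prime_two).1
      (hw.dvd_of_dvd_pow (show w ∣ 2 ^ 2 from hi)))
  set b := (Nat.card (Cfsg.Sz F m)).factorization w with hb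
  have hcardS := card_Sz h
  have hbM : w ^ b ∣ M m i := by
    have h1 : w ^ b ∣ Nat.card (Cfsg.Sz F m) := Nat.ordProj_dvd _ _
    rw [hcardS] at h1
    have h2 : w ^ b ∣ (2 ^ (2 * m + 1)) ^ 2 * (M m 1 * (M m 2 * M m 3)) := by
      rw [← M_mul h.one_le]
      exact h1.trans (Dvd.intro 1 (by ring))
    have hne : ∀ k, k ≠ i → (w ^ b).Coprime (M m k) := fun k hk =>
      Nat.Coprime.pow_left b (hw.coprime_iff_not_dvd.2 fun e => hk (type_unique h.one_le hw e hi))
    have hq : (w ^ b).Coprime ((2 ^ (2 * m + 1)) ^ 2) :=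
      (((Nat.coprime_primes hw Nat.prime_two).2 hw2).pow _ _).pow_right 2
    have h3 := hq.dvd_of_dvd_mul_left h2
    by_cases e1 : i = 1
    · exact e1 ▸ ((hne 2 (by omega)).mul_right (hne 3 (by omega))).dvd_of_dvd_mul_right h3
    · have h4 := (hne 1 (Ne.symm e1)).dvd_of_dvd_mul_left h3
      by_cases e2 : i = 2
      · exact e2 ▸ (hne 3 (by omega)).dvd_of_dvd_mul_right h4
      · have e3 : i = 3 := by omega
        exact e3 ▸ (hne 2 (by omega)).dvd_of_dvd_mul_left h4
  obtain ⟨g0, hg0⟩ := exists_order h i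
  obtain ⟨c, hc⟩ := hbM
  have hc0 : c ≠ 0 := fun e => (M_pos h.one_le i).ne' (by rw [hc, e, mul_zero])
  obtain ⟨y, hy, a, hya, hba⟩ := exists_plift h hπ' (w := w) (b := b) (g := g0 ^ c) (by
    rw [orderOf_pow' _ hc0, hg0, hc, Nat.gcd_mul_left_left, Nat.mul_div_cancel _ (Nat.pos_of_ne_zero hc0)])
  have hab : a = b := by
    refine le_antisymm ?_ hba
    have h1 : w ^ a ∣ M m i := hB'.pow_dvd h.one_le hw hi (dvd_of_eq hya.symm)
    have h2 : M m i ∣ Nat.card (Cfsg.Sz F m) := hg0 ▸ orderOf_dvd_natCard g0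
    exact (Nat.Prime.pow_dvd_iff_le_factorization hw Nat.card_pos.ne').1 (h1.trans h2)
  rw [hab] at hya
  set A := zpowers y
  have hAV : A ⊓ V = ⊥ := (eq_bot_iff_forall _).2 fun x ⟨hxA, hxV⟩ => by
    obtain ⟨k, rfl⟩ := hxA
    have h1 : (g0 ^ c) ^ k = 1 := by rw [← hy, ← map_zpow]; exact hxV
    have h2 := orderOf_dvd_iff_zpow_eq_one.2 h1
    refine orderOf_dvd_iff_zpow_eq_one.1 ?_
    rw [hya]
    rwa [orderOf_pow' _ hc0, hg0, hc, Nat.gcd_mul_left_left,
      Nat.mul_div_cancel _ (Nat.pos_of_ne_zero hc0)] at h2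
  have hAn : A ≤ normalizer (V : Set (K ⧸ W)) := by rw [normalizer_eq_top]; exact le_top
  have hU : Nat.card (V ⊔ A : Subgroup (K ⧸ W)) = Nat.card V * w ^ b := by
    have h1 := SolvBasic.card_sup_mul_card_inf hAn
    rw [inf_comm, hAV, card_bot, mul_one, Nat.card_zpowers, hya] at h1
    rw [h1]
  have hcX : Nat.card (K ⧸ W) = Nat.card V * Nat.card (Cfsg.Sz F m) := by
    rw [← V.card_mul_index, hV, index_ker, MonoidHom.range_eq_top.2 hπ', card_top]
  have hidx : ¬ w ∣ (V ⊔ A : Subgroup (K ⧸ W)).index := fun hwi => by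
    have h1 := (V ⊔ A : Subgroup (K ⧸ W)).card_mul_index
    rw [hU, hcX, mul_assoc] at h1
    have h2 := Nat.eq_of_mul_eq_mul_left Nat.card_pos h1
    have h3 : w ^ (b + 1) ∣ Nat.card (Cfsg.Sz F m) := by
      rw [← h2, pow_succ]; exact mul_dvd_mul_left _ hwi
    have := (Nat.Prime.pow_dvd_iff_le_factorization hw Nat.card_pos.ne').1 h3
    omega
  obtain ⟨H, hH⟩ := SolvGaschutz.existence (K := V) (U := V ⊔ A) le_sup_left (by
    obtain ⟨j, hj⟩ := IsPGroup.iff_card.1 hpV
    rw [hj]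
    exact (hw.coprime_iff_not_dvd.2 hidx).pow_left j) le_sup_right hAV rfl
  have h1 : H.map π' = ⊤ := by
    have h2 := congrArg (Subgroup.map π') hH.sup_eq_top
    rw [Subgroup.map_sup, (Subgroup.map_eq_bot_iff _).2 le_rfl, bot_sup_eq, map_top_of_surjective π' hπ'] at h2
    exact h2
  exact hVne (disjoint_top.1 ((hmin' H h1) ▸ hH.disjoint))

include h hπ hmin hB in
theorem ker_isPGroup : IsPGroup 2 π.ker := by
  refine IsPGroup.of_card (n := (Nat.card π.ker).primeFactorsList.length) ?_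
  exact Nat.eq_prime_pow_of_unique_prime_dvd Nat.card_pos.ne' fun hw hd => ker_two h hπ hmin hB hw hd

include h hπ hmin hB in
/-- The kernel is central. -/
theorem ker_central : π.ker ≤ center K := by
  by_contra hno
  haveI : Fact (Nat.Prime 2) := ⟨Nat.prime_two⟩
  set Z := π.ker
  obtain ⟨P, ⟨hPn, hPZ, hPc⟩, hPmin⟩ := (Set.toFinite {P : Subgroup K | P.Normal ∧ P ≤ Z ∧
    ¬ P ≤ center K}).exists_minimal ⟨Z, inferInstance, le_rfl, hno⟩
  have hPne : P ≠ ⊥ := fun e => hPc (e ▸ bot_le)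
  obtain ⟨W, ⟨hWn, hWP⟩, hWmax⟩ := (Set.toFinite {W : Subgroup K | W.Normal ∧ W < P}).exists_maximal
    ⟨⊥, inferInstance, bot_lt_iff_ne_bot.2 hPne⟩
  haveI := hWn
  haveI := hPn
  have hWc : W ≤ center K := by
    by_contra hc
    exact hWP.not_ge (hPmin ⟨hWn, hWP.le.trans hPZ, hc⟩ hWP.le)
  let φ := QuotientGroup.mk' W
  have hφ : Function.Surjective φ := QuotientGroup.mk'_surjective W
  let π' : K ⧸ W →* Cfsg.Sz F m := QuotientGroup.lift W π (hWP.le.trans hPZ)
  have hπ' : Function.Surjective π' := fun g => by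
    obtain ⟨k, rfl⟩ := hπ g
    exact ⟨φ k, rfl⟩
  set V := P.map φ with hV
  haveI hVn : V.Normal := hPn.map φ hφ
  have hker : π'.ker = Z.map φ := by
    ext x
    obtain ⟨k, rfl⟩ := hφ x
    refine ⟨fun hx => ⟨k, hx, rfl⟩, ?_⟩
    rintro ⟨z, hz, e⟩
    show π' (φ k) = 1
    rw [← e]; exact hz
  have hVk : V ≤ π'.ker := hker ▸ map_mono hPZ
  have hVne : V ≠ ⊥ := fun e => by
    rw [hV, Subgroup.map_eq_bot_iff, QuotientGroup.ker_mk'] at e
    exact hWP.not_ge e
  have hchief : ∀ U : Subgroup (K ⧸ W), U.Normal → U ≤ V → U ≠ V → U = ⊥ := by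
    intro U hU hUV hne
    have hWU : W ≤ U.comap φ := fun k hk => by
      rw [mem_comap, show φ k = 1 from (QuotientGroup.eq_one_iff k).2 hk]; exact one_mem U
    have hUP : U.comap φ ≤ P := fun k hk => by
      obtain ⟨p, hp, e⟩ := hUV hk
      have h1 : p⁻¹ * k ∈ W := QuotientGroup.eq.1 e
      have h2 := mul_mem hp (hWP.le h1)
      rwa [mul_inv_cancel_left] at h2
    rcases eq_or_lt_of_le hUP with e | e
    · exact absurd (by rw [hV, ← e, map_comap_eq_self_of_surjective hφ]) hne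
    · rw [← map_comap_eq_self_of_surjective hφ U, eq_bot_iff]
      exact (map_mono (hWmax ⟨hU.comap φ, e⟩ hWU)).trans
        ((Subgroup.map_eq_bot_iff _).2 (QuotientGroup.ker_mk' W).ge).le
  have hZ2 : IsPGroup 2 π'.ker := hker ▸ (ker_isPGroup h hπ hmin hB).map φ
  -- the kernel centralises the chief factor
  have hcent : π'.ker ≤ centralizer (V : Set (K ⧸ W)) := by
    haveI := hZ2.isNilpotent
    set C := π'.ker ⊓ centralizer (π'.ker : Set (K ⧸ W))
    have h1 : V ⊓ C ≠ ⊥ := by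
      haveI : (V.subgroupOf π'.ker).Normal := inferInstance
      have hne : V.subgroupOf π'.ker ≠ ⊥ := fun e => hVne (by
        rw [subgroupOf_eq_bot] at e
        exact disjoint_iff.1 (e.mono_right le_rfl) |>.symm.trans (inf_eq_left.2 hVk) |>.symm)
      have h2 := SolvStruct.inf_center_ne_bot hne
      intro e
      refine h2 ((eq_bot_iff_forall _).2 fun x hx => ?_)
      have hxC : (x : K ⧸ W) ∈ V ⊓ C := ⟨hx.1, x.2, mem_centralizer_iff.2 fun z hz =>
        congrArg Subtype.val (mem_center_iff.1 hx.2 ⟨z, hz⟩)⟩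
      rw [e, mem_bot] at hxC
      exact Subtype.ext hxC
    have h3 : V ⊓ C = V := by
      by_contra hne
      exact h1 (hchief _ inferInstance inf_le_left hne)
    intro z hz
    refine mem_centralizer_iff.2 fun v hv => ?_
    have h4 : v ∈ C := (h3.ge hv).2
    exact (mem_centralizer_iff.1 h4.2 z hz).symm
  haveI : IsMulCommutative V := ⟨⟨fun a b => Subtype.ext
    (mem_centralizer_iff.1 (hcent (hVk b.2)) a a.2)⟩⟩
  have hV2 : ∀ v ∈ V, v ^ 2 = 1 := by
    have hpV : IsPGroup 2 V := hZ2.to_le hVk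
    have hne : (frattini V).map V.subtype ≠ V := fun e => by
      haveI : Nontrivial V := (nontrivial_iff_ne_bot V).2 hVne
      have e2 : frattini V = ⊤ := map_injective V.subtype_injective (by rw [e, ← MonoidHom.range_eq_map, range_subtype])
      exact (bot_ne_top (α := Subgroup V)) (frattini_nongenerating (G := V) (K := ⊥) (by rw [e2, bot_sup_eq]))
    have h1 := hchief _ inferInstance (map_subtype_le _) hne
    intro v hv
    have h2 := mem_map_of_mem V.subtype (MaximalCount.mem_frattini_pow hpV ⟨v, hv⟩)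
    rw [h1, mem_bot] at h2
    exact h2
  obtain ⟨ρ, hρ⟩ := exists_rho π' hπ' V hcent
  have htriv : ∀ g, ρ g = 1 := by
    by_contra hne
    obtain ⟨C, hC, -⟩ := exists_member_kind h (i := 2) (Or.inl rfl)
    obtain ⟨u, hu⟩ := frob_member h hC
    haveI := Suzuki.isSimple h
    have hinj : ρ.ker = ⊥ := (inferInstance : ρ.ker.Normal).eq_bot_or_eq_top.resolve_right
      fun e => hne fun g => e.ge (mem_top g)
    obtain ⟨c, hc, hc1⟩ := C.bot_or_exists_ne_one.resolve_left hu.ne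
    have hcne : ρ c ≠ 1 := fun e => hc1 (mem_bot.1 (hinj ▸ e))
    obtain ⟨y, hy, a, hya, -⟩ := exists_plift h hπ' (w := 2) (b := 2) (g := u) (by rw [hu.ord]; norm_num)
    have hB' : Bounded (K ⧸ W) m := hB.quot φ hφ
    have hy4 : y ^ 4 = 1 := by
      refine orderOf_dvd_iff_pow_eq_one.1 ?_
      rw [hya, show (4 : ℕ) = 2 ^ 2 by norm_num]
      refine Nat.pow_dvd_pow 2 ?_
      by_contra ha
      exact hB'.not_eight h.one_le y (by rw [hya]; exact Nat.pow_dvd_pow 2 (show 3 ≤ a by omega))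
    obtain ⟨g, hg⟩ := exists_big_order π' hπ' V hcent hVk hV2 ρ hρ (by norm_num) hu
      (Nat.coprime_two_right.2 (Nat.odd_iff.2 (Nat.two_dvd_ne_zero.1 (torType_member h hC).odd)))
      ⟨c, hc, hcne⟩ hy (Or.inl hy4)
    exact hB'.not_eight h.one_le g (by simpa using hg)
  -- so the group acts trivially, and the three subgroup lemma applies
  have hPK : ⁅P, (⊤ : Subgroup K)⁆ ≤ W := commutator_le.2 fun p hp k _ => by
    refine (QuotientGroup.eq_one_iff _).1 ?_
    show φ ⁅p, k⁆ = 1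
    have h1 := hρ (φ k) ⟨φ p, mem_map_of_mem φ hp⟩
    rw [htriv, MulAut.one_apply] at h1
    rw [map_commutatorElement, commutatorElement_eq_one_iff_mul_comm]
    exact (eq_mul_inv_iff_mul_eq.1 h1)
  have hPK2 : ⁅⁅P, (⊤ : Subgroup K)⁆, (⊤ : Subgroup K)⁆ = ⊥ := by
    refine commutator_eq_bot_iff_le_centralizer.2 ((hPK.trans hWc).trans ?_)
    exact fun x hx => mem_centralizer_iff.2 fun k _ => mem_center_iff.1 hx k
  have h3 := commutator_commutator_eq_bot_of_rotate (H₁ := (⊤ : Subgroup K)) (H₂ := (⊤ : Subgroup K))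
    (H₃ := P) (by rw [commutator_comm (⊤ : Subgroup K) P]; exact hPK2) hPK2
  rw [perfect h hπ hmin] at h3
  exact hPc fun p hp => mem_center_iff.2 fun k =>
    (mem_centralizer_iff.1 (commutator_eq_bot_iff_le_centralizer.1 h3 (mem_top k)) p hp).symm

/-! ### The Frobenius subgroups in the cover -/

include h hπ hmin hB in
/-- Lifts of odd order. -/
theorem exists_odd_lift {g : Cfsg.Sz F m} {d : ℕ} (hg : orderOf g = d) (hd : Odd d) :
    ∃ x, π x = g ∧ orderOf x = d := by
  obtain ⟨x0, rfl⟩ := hπ g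
  obtain ⟨e, he⟩ := IsPGroup.iff_card.1 (ker_isPGroup h hπ hmin hB)
  obtain ⟨f, hf⟩ := exists_pow_eq_self_of_coprime (x := π x0) (n := 2 ^ e)
    (by rw [hg]; exact ((Nat.coprime_two_left.2 hd).pow_left e))
  refine ⟨(x0 ^ 2 ^ e) ^ f, by rw [map_pow, map_pow, hf], Nat.dvd_antisymm ?_ ?_⟩
  · refine orderOf_dvd_of_pow_eq_one ?_
    have h1 : x0 ^ d ∈ π.ker := by rw [MonoidHom.mem_ker, map_pow, ← hg, pow_orderOf_eq_one]
    have h2 : (x0 ^ d) ^ 2 ^ e = 1 :=
      congrArg Subtype.val (he ▸ pow_card_eq_one' (x := (⟨_, h1⟩ : π.ker)))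
    rw [← pow_mul, ← pow_mul, show 2 ^ e * (f * d) = d * 2 ^ e * f by ring, pow_mul, pow_mul, h2, one_pow]
  · have h3 := orderOf_map_dvd π ((x0 ^ 2 ^ e) ^ f)
    rwa [map_pow, map_pow, hf, hg] at h3

include h hπ hmin hB in
/-- Lifts of elements of order four. -/
theorem exists_four_lift {u : Cfsg.Sz F m} (hu : orderOf u = 4) : ∃ y, π y = u ∧ orderOf y = 4 := by
  haveI : Fact (Nat.Prime 2) := ⟨Nat.prime_two⟩
  obtain ⟨y, hy, a, hya, ha⟩ := exists_plift h hπ (w := 2) (b := 2) (g := u) (by rw [hu]; norm_num)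
  refine ⟨y, hy, ?_⟩
  have : a = 2 := by
    refine le_antisymm ?_ ha
    by_contra h3
    exact hB.not_eight h.one_le y (by rw [hya]; exact Nat.pow_dvd_pow 2 (show 3 ≤ a by omega))
  rw [hya, this]; norm_num

include h hπ hmin hB in
/-- The Frobenius groups of the tori lift. -/
theorem cover_member {i : Fin 4} (hi : i = 2 ∨ i = 3) : ∃ (C : Subgroup K) (u : K),
    Frob C u 4 ∧ Nat.card C = M m i ∧ ∃ c ∈ C, π c ≠ 1 := by
  obtain ⟨X, hX, hXc⟩ := exists_member_kind h hi
  obtain ⟨v, hv⟩ := frob_member h hX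
  haveI := member_isCyclic h hX
  obtain ⟨g, hg⟩ := IsCyclic.exists_ofOrder_eq_natCard (α := X)
  rw [hXc, ← orderOf_coe] at hg
  have hi0 : i ≠ 0 := by rcases hi with rfl | rfl <;> decide
  obtain ⟨x, hx, hxo⟩ := exists_odd_lift h hπ hmin hB hg (M_odd h.one_le hi0)
  obtain ⟨u, hu, huo⟩ := exists_four_lift h hπ hmin hB hv.ord
  have hgen : ∀ z ∈ X, z ∈ zpowers (g : Cfsg.Sz F m) := fun z hz => by
    have h1 : zpowers (g : Cfsg.Sz F m) = X := eq_of_le_of_card_ge (zpowers_le.2 g.2)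
      (by rw [Nat.card_zpowers, hg, hXc])
    rw [h1]; exact hz
  have hker : ∀ c ∈ zpowers x, π c = 1 → c = 1 := by
    rintro _ ⟨k, rfl⟩ e
    refine orderOf_dvd_iff_zpow_eq_one.1 ?_
    rw [hxo, ← hg]
    exact orderOf_dvd_iff_zpow_eq_one.2 (by rw [← hx, ← map_zpow]; exact e)
  refine ⟨zpowers x, u, ⟨huo, ?_, fun j hj hj4 c hc hcomm => ?_, ?_⟩, by rw [Nat.card_zpowers, hxo],
    x, mem_zpowers x, fun e => ?_⟩
  · refine mem_normalizer_fintype fun c hc => ?_
    rw [SetLike.mem_coe] at hc ⊢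
    have hmem : π (u * c * u⁻¹) ∈ X := by
      rw [map_mul, map_mul, map_inv, hu]
      refine (mem_normalizer_iff.1 hv.norm _).1 ?_
      obtain ⟨k, rfl⟩ := hc
      rw [map_zpow, hx]
      exact zpow_mem g.2 k
    obtain ⟨k, hk⟩ := hgen _ hmem
    have hz : (x ^ k)⁻¹ * (u * c * u⁻¹) ∈ π.ker := by
      rw [MonoidHom.mem_ker, map_mul, map_inv, map_zpow, hx, ← hk, inv_mul_cancel]
    set z := (x ^ k)⁻¹ * (u * c * u⁻¹) with hzdef
    have hzc : Commute (x ^ k) z := (mem_center_iff.1 (ker_central h hπ hmin hB hz) (x ^ k))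
    have hc1 : c ^ M m i = 1 := by
      obtain ⟨l, rfl⟩ := hc
      rw [← zpow_natCast, ← zpow_mul, mul_comm, zpow_mul, zpow_natCast, ← hxo, pow_orderOf_eq_one, one_zpow]
    have hz1 : z ^ M m i = 1 := by
      have h1 : (x ^ k * z) ^ M m i = 1 := by
        rw [hzdef, mul_inv_cancel_left, conj_pow, hc1, mul_one, mul_inv_cancel]
      rw [hzc.mul_pow, ← zpow_natCast (x ^ k), ← zpow_mul, mul_comm k, zpow_mul, zpow_natCast,
        ← hxo, pow_orderOf_eq_one, one_zpow, one_mul] at h1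
      rwa [hxo] at h1
    obtain ⟨a, ha⟩ := IsPGroup.iff_orderOf.1 (ker_isPGroup h hπ hmin hB) ⟨z, hz⟩
    rw [Subgroup.orderOf_mk] at ha
    have hzone : z = 1 := orderOf_eq_one_iff.1 (Nat.eq_one_of_dvd_coprimes
      ((Nat.coprime_two_left.2 (M_odd h.one_le hi0)).pow_left a) (dvd_of_eq ha) (orderOf_dvd_of_pow_eq_one hz1))
    rw [show u * c * u⁻¹ = x ^ k * z by rw [hzdef, mul_inv_cancel_left], hzone, mul_one]
    exact zpow_mem (mem_zpowers x) k
  · refine hker c hc (hv.fpf j hj hj4 _ ?_ ?_)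
    · obtain ⟨k, rfl⟩ := hc
      rw [map_zpow, hx]
      exact zpow_mem g.2 k
    · rw [← hu, ← map_pow, ← map_mul, ← map_mul, hcomm]
  · intro e
    rw [zpowers_eq_bot] at e
    rw [e, orderOf_one] at hxo
    exact (one_lt_M h.one_le i).ne hxo
  · rw [hx] at e
    rw [e, orderOf_one] at hg
    exact (one_lt_M h.one_le i).ne hg

include h hπ hmin hB in
/-- The Frobenius groups of the centre of the root group lift. -/
theorem cover_z {o : ℕ} (ho : o ∣ M m 1) (ho1 : 1 < o) : ∃ (C : Subgroup K) (u : K),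
    Frob C u o ∧ IsPGroup 2 C ∧ ∃ c ∈ C, π c ≠ 1 := by
  haveI : Fact (Nat.Prime 2) := ⟨Nat.prime_two⟩
  obtain ⟨v, hv⟩ := frob_z h ho
  obtain ⟨u, hu, huo⟩ := exists_odd_lift h hπ hmin hB hv.ord ((M_odd h.one_le (by decide)).of_dvd_nat ho)
  have hcen := ker_central h hπ hmin hB
  set E := (zGroup h).comap π
  -- involutory lifts
  have hlift : ∀ b : F, ∃ t : K, (∃ a, π t = T h a 0) ∧ t ^ 4 = 1 ∧ π (t * t) = T h 0 b := by
    intro b
    obtain ⟨a, ha⟩ : ∃ a : F, θ m a * a = b := by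
      by_cases hb : b = 0
      · exact ⟨0, by rw [hb, mul_zero]⟩
      · obtain ⟨a, -, ha⟩ := h.θ_mul_self_surjective b hb
        exact ⟨a, ha⟩
    by_cases ha0 : a = 0
    · refine ⟨1, ⟨0, by rw [map_one, T_zero]⟩, one_pow _, ?_⟩
      rw [mul_one, map_one, ← ha, ha0, mul_zero, T_zero]
    have hTo : orderOf (T h a 0) = 2 ^ 2 := by
      refine orderOf_eq_prime_pow (n := 1) (p := 2) ?_ ?_
      · rw [pow_one, pow_two, T_sq, eq_one_iff_T h]
        exact fun e => mul_ne_zero (θ_ne_zero m ha0) ha0 e.2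
      · rw [pow_succ, pow_mul, pow_one, pow_two, pow_two, T_sq, T_sq]
        exact (eq_one_iff_T h).mpr ⟨rfl, by simp⟩
    obtain ⟨t, ht, hto⟩ := exists_four_lift h hπ hmin hB (hTo.trans (by norm_num))
    refine ⟨t, ⟨a, ht⟩, hto ▸ pow_orderOf_eq_one t, ?_⟩
    rw [map_mul, ht, T_sq, ha]
  choose t ht ht4 htt using hlift
  have hsq : ∀ b, (t b * t b) * (t b * t b) = 1 := fun b => by
    rw [← mul_assoc, ← ht4 b]; simp [pow_succ]
  have hcomm0 : ∀ b b', Commute (t b * t b) (t b' * t b') := by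
    intro b b'
    set e := t b' * t b'
    set z := t b * e * (t b)⁻¹ * e⁻¹ with hz
    have hzk : z ∈ π.ker := by
      obtain ⟨a, ha⟩ := ht b
      rw [MonoidHom.mem_ker, hz, map_mul, map_mul, map_mul, map_inv, map_inv, ha, htt b',
        ← T_zero_central, mul_inv_cancel_right, mul_inv_cancel]
    have hzc : ∀ k, k * z = z * k := mem_center_iff.1 (hcen hzk)
    have h1 : t b * e * (t b)⁻¹ = z * e := by rw [hz]; group
    have hz2 : z * z = 1 := by
      have h2 : (t b * e * (t b)⁻¹) * (t b * e * (t b)⁻¹) = 1 := by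
        rw [show t b * e * (t b)⁻¹ * (t b * e * (t b)⁻¹) = t b * (e * e) * (t b)⁻¹ by group, hsq b']
        group
      rw [h1, show z * e * (z * e) = z * (e * z) * e by group, hzc e,
        show z * (z * e) * e = z * z * (e * e) by group, hsq b', mul_one] at h2
      exact h2
    show t b * t b * e = e * (t b * t b)
    calc t b * t b * e = t b * (t b * e * (t b)⁻¹) * (t b)⁻¹ * (t b * t b) := by group
      _ = t b * (z * e) * (t b)⁻¹ * (t b * t b) := by rw [h1]
      _ = (t b * z) * e * (t b)⁻¹ * (t b * t b) := by group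
      _ = z * (t b * e * (t b)⁻¹) * (t b * t b) := by rw [hzc]; group
      _ = z * z * e * (t b * t b) := by rw [h1]; group
      _ = e * (t b * t b) := by rw [hz2, one_mul]
  have hdec : ∀ x ∈ E, ∃ b, ∃ z ∈ π.ker, x = t b * t b * z := by
    intro x hx
    obtain ⟨b, hb⟩ := hx
    refine ⟨b, (t b * t b)⁻¹ * x, ?_, by rw [mul_inv_cancel_left]⟩
    rw [MonoidHom.mem_ker, map_mul, map_inv, htt, ← hb, inv_mul_cancel]
  haveI hEc : IsMulCommutative E := ⟨⟨fun x x' => Subtype.ext (by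
    obtain ⟨b, z, hz, e⟩ := hdec x x.2
    obtain ⟨b', z', hz', e'⟩ := hdec x' x'.2
    show (x : K) * x' = x' * x
    rw [e, e']
    exact (((hcomm0 b b').mul_right ((mem_center_iff.1 (hcen hz')) _)).mul_left
      (Commute.symm ((mem_center_iff.1 (hcen hz)) _))))⟩⟩
  have huE : ∀ x ∈ E, u * x * u⁻¹ ∈ E := fun x hx => by
    rw [mem_comap, map_mul, map_mul, map_inv, hu]
    exact (mem_normalizer_iff.1 hv.norm _).1 hx
  have hEc' : ∀ {x y : K}, x ∈ E → y ∈ E → x * y = y * x := fun hx hy =>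
    congrArg Subtype.val (mul_comm' (⟨_, hx⟩ : E) ⟨_, hy⟩)
  let φ : E →* K :=
    { toFun := fun x => (x : K)⁻¹ * (u * x * u⁻¹)
      map_one' := by simp
      map_mul' := fun x x' => by
        show ((x : K) * x')⁻¹ * (u * ((x : K) * x') * u⁻¹) = _
        calc ((x : K) * x')⁻¹ * (u * ((x : K) * x') * u⁻¹)
            = (x' : K)⁻¹ * ((x : K)⁻¹ * (u * x * u⁻¹)) * (u * x' * u⁻¹) := by group
          _ = ((x : K)⁻¹ * (u * x * u⁻¹)) * (x' : K)⁻¹ * (u * x' * u⁻¹) := by
              rw [hEc' (inv_mem x'.2) (mul_mem (inv_mem x.2) (huE x x.2))]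
          _ = _ := by group }
  have hφE : ∀ x, φ x ∈ E := fun x => mul_mem (inv_mem x.2) (huE x x.2)
  have hφ2 : ∀ x, φ x ^ 2 = 1 := by
    intro x
    obtain ⟨b, z, hz, e⟩ := hdec x x.2
    have hzc : ∀ k, k * z = z * k := mem_center_iff.1 (hcen hz)
    have h1 : φ x = (t b * t b)⁻¹ * (u * (t b * t b) * u⁻¹) := by
      show (x : K)⁻¹ * (u * x * u⁻¹) = _
      rw [e, mul_inv_rev]
      calc z⁻¹ * (t b * t b)⁻¹ * (u * (t b * t b * z) * u⁻¹)
          = z⁻¹ * (t b * t b)⁻¹ * (u * (t b * t b)) * (z * u⁻¹) := by group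
        _ = z⁻¹ * ((t b * t b)⁻¹ * (u * (t b * t b)) * u⁻¹ * z) := by rw [← hzc u⁻¹]; group
        _ = _ := by rw [hzc]; group
    have hbE : t b * t b ∈ E := by rw [mem_comap, htt]; exact ⟨b, rfl⟩
    rw [h1, pow_two]
    have hc := hEc' (inv_mem hbE) (huE _ hbE)
    calc _ = (t b * t b)⁻¹ * ((u * (t b * t b) * u⁻¹) * (t b * t b)⁻¹) * (u * (t b * t b) * u⁻¹) := by group
      _ = (t b * t b)⁻¹ * ((t b * t b)⁻¹ * (u * (t b * t b) * u⁻¹)) * (u * (t b * t b) * u⁻¹) := by rw [hc]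
      _ = ((t b * t b) * (t b * t b))⁻¹ * (u * ((t b * t b) * (t b * t b)) * u⁻¹) := by group
      _ = 1 := by rw [hsq b]; group
  have hφk : ∀ x, π (φ x) = 1 → φ x = 1 := by
    intro x hx
    have hx' : π (x : K) = 1 := by
      refine hv.fpf 1 one_pos ho1 _ x.2 ?_
      rw [pow_one]
      change π ((x : K)⁻¹ * (u * x * u⁻¹)) = 1 at hx
      rw [map_mul, map_inv, map_mul, map_mul, map_inv, hu, inv_mul_eq_one] at hx
      exact eq_mul_inv_iff_mul_eq.1 hx |>.symm
    show (x : K)⁻¹ * (u * x * u⁻¹) = 1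
    rw [mem_center_iff.1 (hcen (show (x : K) ∈ π.ker from hx')) u, mul_inv_cancel_right, inv_mul_cancel]
  obtain ⟨z₀, hz₀, hz₀1⟩ := (zGroup h).bot_or_exists_ne_one.resolve_left hv.ne
  obtain ⟨x₀, hx₀⟩ := hπ z₀
  have hx₀E : x₀ ∈ E := by rw [mem_comap, hx₀]; exact hz₀
  have hne : π (φ ⟨x₀, hx₀E⟩) ≠ 1 := fun e => hz₀1 (by
    change π (x₀⁻¹ * (u * x₀ * u⁻¹)) = 1 at e
    rw [map_mul, map_inv, map_mul, map_mul, map_inv, hu, inv_mul_eq_one, hx₀] at e
    exact hv.fpf 1 one_pos ho1 z₀ hz₀ (by rw [pow_one]; exact (eq_mul_inv_iff_mul_eq.1 e).symm))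
  refine ⟨φ.range, u, ⟨huo, ?_, fun j hj hjo c hc hcomm => ?_, ?_⟩, ?_, _, ⟨_, rfl⟩, hne⟩
  · refine mem_normalizer_fintype ?_
    rintro _ ⟨x, rfl⟩
    refine ⟨⟨u * x * u⁻¹, huE x x.2⟩, ?_⟩
    show (u * (x : K) * u⁻¹)⁻¹ * (u * (u * x * u⁻¹) * u⁻¹) = u * ((x : K)⁻¹ * (u * x * u⁻¹)) * u⁻¹
    group
  · obtain ⟨x, rfl⟩ := hc
    refine hφk x (hv.fpf j hj hjo _ (hφE x) ?_)
    rw [← hu, ← map_pow, ← map_mul, ← map_mul, hcomm]
  · intro e
    have h1 : φ ⟨x₀, hx₀E⟩ = 1 := by
      have := (MonoidHom.mem_range (f := φ)).2 ⟨⟨x₀, hx₀E⟩, rfl⟩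
      rwa [e, mem_bot] at this
    exact hne (by rw [h1, map_one])
  · rintro ⟨_, x, rfl⟩
    exact ⟨1, Subtype.ext (by simpa using hφ2 x)⟩

end Cfsg.Agent.SzSquare
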