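import Cfsg.Agent.Lib.SzSquare.Comps
import Cfsg.Agent.Lib.SpecTri.Main
import Cfsg.Agent.Lib.Suzuki.Subfield

/-!
Some component is defined over the whole field.
-/

set_option autoImplicit false
set_option linter.style.haveILetI false
set_option linter.unusedSectionVars false

namespace Cfsg.Agent.SzSquare

open Cfsg.Agent.Suzuki Subgroup
open scoped IsMulCommutative commutatorElement

universe u v

variable {F : Type*} [Field F] [Fintype F] {m : ℕ}

/-- A copy over the whole field is a copy of the given group. -/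
theorem copy_full (h : SzField F m) {X : Type u} [Group X] {K : Type} [Field K] [Fintype K] {l : ℕ}
    (hK : SzField K l) (hlm : l = m) {f : Cfsg.Sz K l →* X} (hf : Function.Injective f) :
    ∃ f' : Cfsg.Sz F m →* X, Function.Injective f' ∧ f'.range = f.range := by
  subst hlm
  obtain ⟨φ⟩ := exists_ringHom h hK dvd_rfl
  have hbij : Function.Bijective (emb h hK dvd_rfl φ) :=
    (Nat.bijective_iff_injective_and_card _).2 ⟨emb_injective h hK dvd_rfl φ, by rw [card_Sz hK, card_Sz h]⟩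
  let e := MulEquiv.ofBijective (emb h hK dvd_rfl φ) hbij
  exact ⟨f.comp e.symm.toMonoidHom, hf.comp e.symm.injective, by
    rw [MonoidHom.range_comp, MonoidHom.range_eq_top.2 e.symm.surjective, ← MonoidHom.range_eq_map]⟩

variable {G : Type u} [Group G] [Finite G] {X : Type u} [Group X] [Finite X]

/-- The four primes in a solvable group. -/
theorem solvable_false (hm : 1 ≤ m) (hB : Bounded G m) (s : Fin 4 → ℕ) (hs : ∀ i, (s i).Prime)
    (hsd : ∀ i, s i ∣ M m i) (Y : Subgroup G) [Group.IsSolvable Y]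
    (hp : ∀ i j, i < j → ∃ x ∈ Y, ∃ y ∈ Y, orderOf x = s i ∧ orderOf y = s j ∧ Commute x y) : False := by
  classical
  have hinj : ∀ {i j}, s i = s j → i = j := fun {i j} e => type_unique hm (hs i) (hsd i) (e ▸ hsd j)
  refine SpecTri.not_solvable (G := Y) (Finset.univ.image s)
    (by rw [Finset.card_image_of_injective _ (fun a b e => hinj e)]; simp) ?_ ?_ ?_ inferInstance
  · intro p hp
    obtain ⟨i, -, rfl⟩ := Finset.mem_image.1 hp
    exact hs i
  · intro p hp' q hq hpq
    obtain ⟨i, -, rfl⟩ := Finset.mem_image.1 hp'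
    obtain ⟨j, -, rfl⟩ := Finset.mem_image.1 hq
    have key : ∀ i j, i < j → ∃ g : Y, orderOf g = s i * s j := fun i j hij => by
      obtain ⟨x, hx, y, hy, hxo, hyo, hc⟩ := hp i j hij
      refine ⟨⟨x * y, mul_mem hx hy⟩, ?_⟩
      rw [Subgroup.orderOf_mk, hc.orderOf_mul_eq_mul_orderOf_of_coprime (by
        rw [hxo, hyo]; exact (Nat.coprime_primes (hs i) (hs j)).2 fun e => hij.ne (hinj e)), hxo, hyo]
    rcases lt_trichotomy i j with hij | hij | hij
    · exact key i j hij
    · exact absurd (congrArg s hij) hpq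
    · obtain ⟨g, hg⟩ := key j i hij
      exact ⟨g, hg.trans (mul_comm _ _)⟩
  · intro p hp' q hq r hr hpq hqr hpr g hg
    obtain ⟨i, -, rfl⟩ := Finset.mem_image.1 hp'
    obtain ⟨j, -, rfl⟩ := Finset.mem_image.1 hq
    obtain ⟨k, -, rfl⟩ := Finset.mem_image.1 hr
    exact (hB.sub Y).three hm (i₁ := i) (i₂ := j) (i₃ := k) (fun e => hpq (e ▸ rfl)) (fun e => hpr (e ▸ rfl))
      (fun e => hqr (e ▸ rfl)) (hsd i) (hsd j) (hsd k) (hs i).ne_one (hs j).ne_one (hs k).ne_one
      (hg ▸ (dvd_mul_right _ _).mul_right _) (hg ▸ (dvd_mul_left _ _).mul_right _) (hg ▸ dvd_mul_left _ _)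

/-- Some component is a copy over the whole field. -/
theorem exists_full (hSz : ThreePrime.SimpleSz.{u}) (hm : 1 ≤ m) (hO : Omega G m) (π : G →* X)
    (hπ : Function.Surjective π) [Group.IsSolvable π.ker] (hrad : Components.solvRadical X = ⊥) :
    ∃ (L : Subgroup X) (K : Type) (_ : Field K) (_ : Fintype K) (f : Cfsg.Sz K m →* X),
      Cfsg.IsComponent L ∧ SzField K m ∧ Function.Injective f ∧ f.range = L := by
  by_contra hno
  have hB : Bounded X m := hO.bd.quot π hπ
  haveI : Fact (Nat.Prime 2) := ⟨Nat.prime_two⟩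
  -- an exponent for the squares
  obtain ⟨D, hDM, hD⟩ : ∃ D, (∀ i : Fin 4, i ≠ 0 → ¬ M m i ∣ D) ∧ ∀ g : X, g ^ D = 1 := by
    by_cases hX : Subsingleton X
    · refine ⟨1, fun i _ h1 => (one_lt_M hm i).ne' (Nat.dvd_one.1 h1), fun g => Subsingleton.elim _ _⟩
    haveI : Nontrivial X := not_subsingleton_iff_nontrivial.1 hX
    have hdata : ∀ L, Cfsg.IsComponent L → ∃ l, 1 ≤ l ∧ l < m ∧ 2 * l + 1 ∣ 2 * m + 1 ∧
        ∀ g ∈ normalizer (L : Set X), ∀ e, expo l ∣ e → ∀ x ∈ L, g ^ e * x = x * g ^ e := by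
      intro L hL
      obtain ⟨K, i1, i2, l, hK, hd, f, hf, hr⟩ := component_copy hm hrad hB hSz hL
      refine ⟨l, hK.one_le, ?_, hd, fun g hg e he => hr ▸ pow_expo_centralises hm hrad hB hK hf (hr ▸ hg) he⟩
      have h1 := Nat.le_of_dvd (by omega) hd
      refine lt_of_le_of_ne (by omega) fun e => hno ?_
      subst e
      exact ⟨L, K, i1, i2, f, hL, hK, hf, hr⟩
    rcases comps_cases hm hrad hB hSz with ⟨L, hL, hall⟩ | ⟨L₁, L₂, h1, h2, hne, hall⟩
    · obtain ⟨l, hl, hlm, hd, hc⟩ := hdata L hL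
      refine ⟨2 * Nat.lcm (expo l) (expo l), fun i hi => not_dvd_lcm hl hl hm hd hd hlm hlm hi,
        fun g => eq_one_of_centralises hrad fun M' hM' x hx => ?_⟩
      rw [hall M' hM'] at hx
      exact hc g (mem_normalizer_of_map_conj (hall _ (map_conj_component hL g))) _
        ((Nat.dvd_lcm_left _ _).mul_left 2) x hx
    · obtain ⟨l₁, hl₁, hlm₁, hd₁, hc₁⟩ := hdata L₁ h1
      obtain ⟨l₂, hl₂, hlm₂, hd₂, hc₂⟩ := hdata L₂ h2
      refine ⟨2 * Nat.lcm (expo l₁) (expo l₂), fun i hi => not_dvd_lcm hl₁ hl₂ hm hd₁ hd₂ hlm₁ hlm₂ hi,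
        fun g => eq_one_of_centralises hrad fun M' hM' x hx => ?_⟩
      have key : ∀ {A B : Subgroup X}, Cfsg.IsComponent A → A ≠ B →
          (∀ M' : Subgroup X, Cfsg.IsComponent M' → M' = A ∨ M' = B) → Cfsg.IsComponent B →
          g ^ 2 ∈ normalizer (A : Set X) := by
        intro A B hA hAB hAll hB'
        have hinj : Function.Injective fun L : Subgroup X => L.map (MulAut.conj g).toMonoidHom :=
          Subgroup.map_injective (MulAut.conj g).injective
        refine mem_normalizer_of_map_conj ?_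
        have e : A.map (MulAut.conj (g ^ 2)).toMonoidHom =
            (A.map (MulAut.conj g).toMonoidHom).map (MulAut.conj g).toMonoidHom := by
          rw [map_map]; congr 1
          ext y
          simp [pow_two, mul_assoc]
        rw [e]
        rcases hAll _ (map_conj_component hA g) with e1 | e1
        · rw [e1, e1]
        · rw [e1]
          rcases hAll _ (map_conj_component hB' g) with e2 | e2
          · exact e2
          · exact absurd (hinj (e1.trans e2.symm)) hAB
      rw [pow_mul]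
      rcases hall M' hM' with rfl | rfl
      · exact hc₁ _ (key h1 hne hall h2) _ (Nat.dvd_lcm_left _ _) x hx
      · exact hc₂ _ (key h2 hne.symm (fun N hN => (hall N hN).symm) h1) _ (Nat.dvd_lcm_right _ _) x hx
  -- the prime powers outside the exponent
  have hpp : ∀ i : Fin 4, ∃ c k, c.Prime ∧ c ^ (k + 1) ∣ M m i ∧ (i ≠ 0 → ¬ c ^ (k + 1) ∣ D) ∧ (i = 0 → c = 2 ∧ k = 0) := by
    intro i
    by_cases hi : i = 0
    · subst hi; exact ⟨2, 0, Nat.prime_two, ⟨2, rfl⟩, fun e => absurd rfl e, fun _ => ⟨rfl, rfl⟩⟩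
    have h1 := hDM i hi
    rw [Nat.dvd_iff_prime_pow_dvd_dvd] at h1
    push Not at h1
    obtain ⟨c, k, hc, hcM, hcD⟩ := h1
    obtain ⟨j, rfl⟩ : ∃ j, k = j + 1 := ⟨k - 1, by
      rcases Nat.eq_zero_or_pos k with rfl | hk
      · rw [pow_zero] at hcD; exact absurd (one_dvd D) hcD
      · omega⟩
    exact ⟨c, j, hc, hcM, fun _ => hcD, fun e => absurd e hi⟩
  choose c k hc hcM hcD h0 using hpp
  -- the solvable subgroup
  obtain ⟨S⟩ : Nonempty (Sylow 2 X) := inferInstance
  set Y := (S : Subgroup X).comap π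
  haveI : Group.IsSolvable Y := by
    haveI : Group.IsSolvable (S : Subgroup X) := by
      haveI := S.2.isNilpotent
      infer_instance
    let f : Y →* (S : Subgroup X) := (π.comp Y.subtype).codRestrict _ fun a => a.2
    refine Group.isSolvable_of_ker_le_range (inclusion (show π.ker ≤ Y from fun a ha => ?_)) f fun a ha => ?_
    · rw [mem_comap, MonoidHom.mem_ker.1 ha]; exact one_mem _
    · exact ⟨⟨a, congrArg Subtype.val ha⟩, rfl⟩
  have hker : ∀ {i : Fin 4}, i ≠ 0 → ∀ x : G, orderOf x = c i ^ (k i + 1) →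
      x ^ (c i ^ k i) ∈ π.ker ∧ orderOf (x ^ (c i ^ k i)) = c i := by
    intro i hi x hx
    refine ⟨?_, ?_⟩
    · have h1 : orderOf (π x) ∣ c i ^ (k i + 1) := hx ▸ orderOf_map_dvd π x
      obtain ⟨j, hj, e⟩ := (Nat.dvd_prime_pow (hc i)).1 h1
      have hjk : j ≤ k i := by
        by_contra hjk
        refine hcD i hi ?_
        rw [show k i + 1 = j by omega, ← e]
        exact orderOf_dvd_of_pow_eq_one (hD _)
      rw [MonoidHom.mem_ker, map_pow]
      exact orderOf_dvd_iff_pow_eq_one.1 (e ▸ Nat.pow_dvd_pow _ hjk)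
    · rw [orderOf_pow' _ (pow_pos (hc i).pos _).ne', hx, Nat.gcd_eq_right (Nat.pow_dvd_pow _ (Nat.le_succ _)),
        Nat.pow_div (Nat.le_succ _) (hc i).pos, Nat.succ_sub (le_refl _), Nat.sub_self, pow_one]
  refine solvable_false hm hO.bd c hc (fun i => (dvd_pow_self _ (Nat.succ_ne_zero _)).trans (hcM i)) Y
    fun i j hij => ?_
  have hj0 : j ≠ 0 := fun e => by subst e; exact absurd hij (by omega)
  obtain ⟨x, y, hx, hy, hxy, -⟩ := hO.exists_pair hm hij.ne (hcM i) (hcM j)
  obtain ⟨hyk, hyo⟩ := hker hj0 y hy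
  have hle : π.ker ≤ Y := fun a ha => by rw [mem_comap, MonoidHom.mem_ker.1 ha]; exact one_mem _
  by_cases hi0 : i = 0
  · subst hi0
    obtain ⟨hc0, hk0⟩ := h0 0 rfl
    rw [hc0, hk0] at hx
    have hP : IsPGroup 2 (zpowers (π x)) := by
      obtain ⟨j', -, e⟩ := (Nat.dvd_prime_pow Nat.prime_two).1 (hx ▸ orderOf_map_dvd π x)
      exact IsPGroup.of_card (n := j') (by rw [Nat.card_zpowers, e])
    obtain ⟨P, hP'⟩ := hP.exists_le_sylow
    obtain ⟨v, hv⟩ := MulAction.exists_smul_eq X P S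
    obtain ⟨g, rfl⟩ := hπ v
    refine ⟨g * x * g⁻¹, ?_, g * y ^ (c j ^ k j) * g⁻¹, hle ((MonoidHom.normal_ker π).conj_mem _ hyk g),
      by rw [orderOf_conj_eq, hx, hc0]; rfl, by rw [orderOf_conj_eq, hyo], ?_⟩
    · rw [mem_comap, map_mul, map_mul, map_inv, ← hv]
      exact mem_map_of_mem (MulAut.conj (π g)).toMonoidHom (hP' (mem_zpowers _))
    · exact (hxy.pow_right _).map (MulAut.conj g).toMonoidHom
  · obtain ⟨hxk, hxo⟩ := hker hi0 x hx
    exact ⟨_, hle hxk, _, hle hyk, hxo, hyo, hxy.pow_pow _ _⟩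

end Cfsg.Agent.SzSquare
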