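import Cfsg.Agent.Lib.SzSquare.Main
import Cfsg.Agent.Lib.ThreePrime.End.Main
import Cfsg.Agent.Lib.ThreePrime.Main

/-!
The recognition for the Suzuki groups of the Lie type list.
-/

set_option autoImplicit false
set_option linter.style.haveILetI false
set_option linter.unusedSectionVars false

namespace Cfsg.Agent.SzSquare

universe u

/-- Recognition by spectrum of `Sz(q) × Sz(q)`, `q ≠ 32`. -/
theorem lie_main {F : Type*} [Field F] [Fintype F] {m : ℕ} (hm : 1 ≤ m) (hm2 : m ≠ 2)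
    (hF : Fintype.card F = 2 ^ (2 * m + 1)) {G : Type u} [Group G] [Finite G]
    (hr : Set.range (orderOf : G → ℕ) =
      Set.range (orderOf : ↥(Cfsg.Lie.Sz F (2 ^ (m + 1))) × ↥(Cfsg.Lie.Sz F (2 ^ (m + 1))) → ℕ)) :
    Nonempty (G ≃* ↥(Cfsg.Lie.Sz F (2 ^ (m + 1))) × ↥(Cfsg.Lie.Sz F (2 ^ (m + 1)))) := by
  have h : Suzuki.SzField F m := ⟨hm, hF⟩
  let E := MulEquiv.prodCongr (Suzuki.minorEquiv h) (Suzuki.minorEquiv h)
  have hr' : Set.range (orderOf : G → ℕ) = Set.range (orderOf : Cfsg.Sz F m × Cfsg.Sz F m → ℕ) := by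
    rw [hr, ← E.surjective.range_comp]
    exact congrArg Set.range (funext fun x => MulEquiv.orderOf_eq E x)
  obtain ⟨e⟩ := main h (ThreePrime.simpleSz_of_end ThreePrime.endStmt) hm2 (omega_of_range h hr')
  exact ⟨e.trans E⟩

end Cfsg.Agent.SzSquare
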