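import Cfsg.Agent.Lib.SzSquare.Two
import Cfsg.Agent.Lib.MaxNorm13.Quot

/-!
`Sz(q) × Sz(q)` is recognised by its spectrum.
-/

set_option autoImplicit false
set_option linter.style.haveILetI false
set_option linter.unusedSectionVars false

namespace Cfsg.Agent.SzSquare

open Cfsg.Agent.Suzuki Subgroup
open scoped IsMulCommutative commutatorElement

universe u v

variable {F : Type*} [Field F] [Fintype F] {m : ℕ} (h : SzField F m)

include h in
theorem center_trivial {s : Cfsg.Sz F m} (hs : ∀ t, s * t = t * s) : s = 1 := by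
  haveI := Suzuki.isSimple h
  have h1 : s ∈ center (Cfsg.Sz F m) := mem_center_iff.2 fun t => (hs t).symm
  rcases (inferInstance : (center (Cfsg.Sz F m)).Normal).eq_bot_or_eq_top with e | e
  · exact mem_bot.1 (e ▸ h1)
  · exfalso
    have hc : commutator (Cfsg.Sz F m) ≤ ⊥ := commutator_le.2 fun a _ b _ => by
      rw [mem_bot, commutatorElement_eq_one_iff_mul_comm]
      exact mem_center_iff.1 (e.ge (mem_top b)) a
    rw [sz_not_comm h] at hc
    exact (top_ne_bot (α := Subgroup (Cfsg.Sz F m))) (le_bot_iff.1 hc)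

include h in
/-- The spectrum of `Sz(q) × Sz(q)` gives the two properties. -/
theorem omega_of_range {G : Type u} [Group G]
    (hr : Set.range (orderOf : G → ℕ) = Set.range (orderOf : Cfsg.Sz F m × Cfsg.Sz F m → ℕ)) : Omega G m := by
  have hm := h.one_le
  refine ⟨fun g => ?_, fun i j hij => ?_⟩
  · obtain ⟨⟨a, b⟩, e⟩ := hr.le ⟨g, rfl⟩
    rw [Prod.orderOf_mk] at e
    obtain ⟨i, hi⟩ := exists_kind h a
    obtain ⟨j, hj⟩ := exists_kind h b
    rw [← e]
    by_cases hij : i = j
    · subst hij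
      obtain ⟨k, hk⟩ : ∃ k, i ≠ k := ⟨if i = 0 then 1 else 0, by split_ifs with e0 <;> simp_all⟩
      exact ⟨i, k, hk, (Nat.lcm_dvd hi hj).mul_right _⟩
    · exact ⟨i, j, hij, (Nat.lcm_dvd_mul _ _).trans (mul_dvd_mul hi hj)⟩
  · obtain ⟨a, ha⟩ := exists_order h i
    obtain ⟨b, hb⟩ := exists_order h j
    obtain ⟨g, hg⟩ := hr.ge ⟨(a, b), rfl⟩
    exact ⟨g, by rw [hg, Prod.orderOf_mk, ha, hb, (M_coprime hm hij).lcm_eq_mul]⟩

variable {X : Type u} [Group X] [Finite X]

include h in
/-- A torus element of the whole field centralises too little to live over a proper subfield. -/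
theorem no_small {K : Type} [Field K] [Fintype K] {l : ℕ} (hK : SzField K l) (hd : 2 * l + 1 ∣ 2 * m + 1)
    (hl : l < m) (hO : Omega X m) {f₁ : Cfsg.Sz K l →* X} {f₂ : Cfsg.Sz F m →* X} (hf₁ : Function.Injective f₁)
    (hf₂ : Function.Injective f₂) (hn₁ : f₁.range.Normal) (hn₂ : f₂.range.Normal)
    (hcomm : ∀ s t, Commute (f₁ s) (f₂ t))
    (hcent : ∀ g : X, (∀ s, g * f₁ s = f₁ s * g) → (∀ s, g * f₂ s = f₂ s * g) → g = 1) : False := by
  classical
  have hm := h.one_le
  obtain ⟨p, hP⟩ := exists_prim hm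
  haveI := Fact.mk hP.prime
  have hnd := not_dvd_lcm hK.one_le hK.one_le hm hd hd hl hl (i := 2) (by decide)
  rw [Nat.lcm_self] at hnd
  obtain ⟨x, y, hx, hy, hxy, -⟩ := hO.exists_pair hm (i := 1) (j := 2) (by decide) hP.dvd (dvd_refl (M m 2))
  have nm : ∀ (L : Subgroup X), L.Normal → ∀ g : X, g ∈ normalizer (L : Set X) := fun L hL g => by
    haveI := hL
    rw [normalizer_eq_top]; exact mem_top g
  obtain ⟨A₁, hA₁⟩ := exists_act hf₁
  obtain ⟨A₂, hA₂⟩ := exists_act hf₂
  -- `x` centralises the smaller copy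
  have hA₁x : A₁ ⟨x, nm _ hn₁ x⟩ = 1 := by
    refine orderOf_eq_one_iff.1 (Nat.eq_one_of_dvd_coprimes ?_
      (orderOf_dvd_of_pow_eq_one (aut_expo hK _)) ((orderOf_map_dvd A₁ _).trans (dvd_of_eq ((Subgroup.orderOf_mk _ _).trans hx))))
    exact (hP.prime.coprime_iff_not_dvd.2 (hP.not_dvd_expo hd hl)).symm
  have hx1 : ∀ s, x * f₁ s = f₁ s * x := fun s => by
    have h1 := hA₁ ⟨x, nm _ hn₁ x⟩ s
    rw [hA₁x, MulAut.one_apply] at h1
    exact (eq_mul_inv_iff_mul_eq.1 h1).symm
  -- `x` induces an inner automorphism of the larger copy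
  obtain ⟨u, hu⟩ := aut_pow_inner h (A₂ ⟨x, nm _ hn₂ x⟩)
  obtain ⟨k, hk⟩ := exists_pow_eq_self_of_coprime (x := x) (n := 2 * m + 1)
    (by rw [hx]; exact (hP.prime.coprime_iff_not_dvd.2 hP.not_dvd).symm)
  have hx2 : ∀ s, f₂ (u ^ k * s * (u ^ k)⁻¹) = x * f₂ s * x⁻¹ := fun s => by
    have h1 := hA₂ ((⟨x, nm _ hn₂ x⟩ ^ (2 * m + 1)) ^ k) s
    rw [map_pow, map_pow, hu, ← map_pow] at h1
    simp only [SubmonoidClass.coe_pow, hk] at h1
    exact h1
  set w0 := u ^ k
  have hxw : x = f₂ w0 := by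
    refine (inv_mul_eq_one.1 (hcent ((f₂ w0)⁻¹ * x) (fun s => ?_) fun s => ?_)).symm
    · rw [mul_assoc, hx1, ← mul_assoc, ((hcomm s w0).inv_right).eq.symm, mul_assoc]
    · have h1 := hx2 s
      rw [map_mul, map_mul, map_inv] at h1
      calc (f₂ w0)⁻¹ * x * f₂ s = (f₂ w0)⁻¹ * (x * f₂ s * x⁻¹) * x := by group
        _ = f₂ s * ((f₂ w0)⁻¹ * x) := by rw [← h1]; group
  have hwo : orderOf w0 = p := by rw [← orderOf_injective f₂ hf₂, ← hxw, hx]
  -- `y` centralises the larger copy
  have hfix : A₂ ⟨y, nm _ hn₂ y⟩ w0 = w0 := hf₂ (by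
    rw [hA₂, ← hxw]
    exact mul_inv_eq_iff_eq_mul.2 hxy.eq.symm)
  obtain ⟨w, hw⟩ := inner_of_fix h hP hwo hfix
  have hwc : Commute w0 w := by
    have h1 := hfix
    rw [hw, MulAut.conj_apply] at h1
    exact (mul_inv_eq_iff_eq_mul.1 h1).symm
  have hw1 : w = 1 := by
    refine (commute_kinds h hwc (show (1 : Fin 4) ≠ 2 by decide) (hwo.symm ▸ hP.dvd) ?_).resolve_left fun e => ?_
    · refine orderOf_dvd_of_pow_eq_one (center_trivial h fun t => ?_)
      have h1 : MulAut.conj (w ^ M m 2) = 1 := by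
        rw [map_pow, ← hw, ← map_pow]
        convert! map_one A₂
        exact Subtype.ext (hy ▸ pow_orderOf_eq_one y)
      exact mul_inv_eq_iff_eq_mul.1 (DFunLike.congr_fun h1 t)
    · rw [e, orderOf_one] at hwo
      exact hP.prime.ne_one hwo.symm
  have hy2 : ∀ s, y * f₂ s = f₂ s * y := fun s => by
    have h1 := hA₂ ⟨y, nm _ hn₂ y⟩ s
    rw [hw, hw1, map_one, MulAut.one_apply] at h1
    exact (eq_mul_inv_iff_mul_eq.1 h1).symm
  have hye : y ^ expo l = 1 := hcent _ (fun s => by
    have h1 := hA₁ (⟨y, nm _ hn₁ y⟩ ^ expo l) s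
    rw [map_pow, aut_expo hK, MulAut.one_apply] at h1
    exact (eq_mul_inv_iff_mul_eq.1 h1).symm) fun s => ((show Commute y (f₂ s) from hy2 s).pow_left _).eq
  exact hnd ((hy ▸ orderOf_dvd_of_pow_eq_one hye).mul_left 2)

include h in
/-- The recognition theorem. -/
theorem main (hSz : ThreePrime.SimpleSz.{u}) (hm2 : m ≠ 2) {G : Type u} [Group G] [Finite G] (hO : Omega G m) :
    Nonempty (G ≃* Cfsg.Sz F m × Cfsg.Sz F m) := by
  classical
  have hm := h.one_le
  haveI := Components.solvRadical_normal (G := G)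
  haveI := Components.solvRadical_solvable (G := G)
  let π := QuotientGroup.mk' (Components.solvRadical G)
  have hπ : Function.Surjective π := QuotientGroup.mk'_surjective _
  have hπk : π.ker = Components.solvRadical G := QuotientGroup.ker_mk' _
  haveI hks : Group.IsSolvable π.ker := hπk.symm ▸ Components.solvRadical_solvable
  have hrad := MaxNorm13.solvRadical_eq_bot π hπ hπk
  have hBX : Bounded (G ⧸ Components.solvRadical G) m := hO.bd.quot π hπ
  obtain ⟨L, K, i1, i2, f0, hL, hK0, hf0, hr0⟩ := exists_full hSz hm hO π hπ hrad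
  obtain ⟨f, hf, hfr⟩ := copy_full h hK0 rfl hf0
  rw [hr0] at hfr
  haveI : Nontrivial (G ⧸ Components.solvRadical G) := by
    haveI := Suzuki.isSimple h
    exact hf.nontrivial
  have nrm : ∀ (L' : Subgroup (G ⧸ Components.solvRadical G)) (g : G ⧸ Components.solvRadical G),
      (∀ z, L'.map (MulAut.conj z).toMonoidHom = L') → g ∈ normalizer (L' : Set (G ⧸ Components.solvRadical G)) :=
    fun L' g hL' => mem_normalizer_of_map_conj (hL' g)
  rcases comps_cases hm hrad hBX hSz with ⟨L', hL', hall⟩ | ⟨La, Lb, ha, hb, hne, hall⟩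
  · -- one component
    exfalso
    have hLL : L' = L := (hall L hL).symm
    subst hLL
    have hnorm : ∀ g, g ∈ normalizer (f.range : Set (G ⧸ Components.solvRadical G)) := fun g =>
      hfr ▸ nrm L' g (fun z => hall _ (map_conj_component hL z))
    have hcent : ∀ g, (∀ s, g * f s = f s * g) → g = 1 := fun g hg =>
      eq_one_of_centralises hrad fun M' hM' x hx => by
        rw [hall M' hM', ← hfr] at hx
        obtain ⟨s, rfl⟩ := hx
        exact hg s
    obtain ⟨A, hA⟩ := exists_act hf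
    have hin : ∀ x : G, (orderOf x).Coprime (2 * m + 1) → x ∈ f.range.comap π := fun x hx => by
      obtain ⟨u, hu⟩ := aut_pow_inner h (A ⟨π x, hnorm _⟩)
      obtain ⟨k, hk⟩ := exists_pow_eq_self_of_coprime (x := π x) (n := 2 * m + 1)
        (hx.coprime_dvd_left (orderOf_map_dvd π x)).symm
      refine ⟨u ^ k, (inv_mul_eq_one.1 (hcent ((f (u ^ k))⁻¹ * π x) fun s => ?_))⟩
      have h1 := hA ((⟨π x, hnorm _⟩ ^ (2 * m + 1)) ^ k) s
      rw [map_pow A, map_pow A, hu, ← map_pow] at h1
      simp only [SubmonoidClass.coe_pow, hk, MulAut.conj_apply, map_mul, map_inv] at h1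
      calc (f (u ^ k))⁻¹ * π x * f s = (f (u ^ k))⁻¹ * (π x * f s * (π x)⁻¹) * π x := by group
        _ = f s * ((f (u ^ k))⁻¹ * π x) := by rw [← h1]; group
    set L0 := f.range.comap π
    let e := MonoidHom.ofInjective hf
    let π0 : L0 →* Cfsg.Sz F m := e.symm.toMonoidHom.comp ((π.comp L0.subtype).codRestrict f.range fun a => a.2)
    have hπ0 : Function.Surjective π0 := fun t => by
      obtain ⟨g, hg⟩ := hπ (f t)
      refine ⟨⟨g, show π g ∈ f.range from hg ▸ ⟨t, rfl⟩⟩, e.injective ?_⟩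
      show e (e.symm _) = e t
      rw [e.apply_symm_apply]
      exact Subtype.ext hg
    haveI : Group.IsSolvable π0.ker := by
      let j : π0.ker →* π.ker := (L0.subtype.comp π0.ker.subtype).codRestrict π.ker fun a => by
        have h1 := congrArg e a.2
        rw [map_one, show e (π0 a.1) = (⟨π (a.1 : G), a.1.2⟩ : f.range) from e.apply_symm_apply _] at h1
        exact congrArg Subtype.val h1
      exact Group.isSolvable_of_isSolvable_injective (f := j) fun a b e' =>
        Subtype.ext (Subtype.ext (congrArg (fun z : π.ker => (z : G)) e'))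
    choose s hs hsd hsn using exists_primes hm hm2
    refine one_false h hπ0 (hO.bd.sub L0) s hs hsd fun i j hij => ?_
    obtain ⟨x, y, hx, hy, hxy, -⟩ := hO.exists_pair hm hij (hsd i) (hsd j)
    have hxL := hin x (by rw [hx]; exact (hs i).coprime_iff_not_dvd.2 (hsn i))
    have hyL := hin y (by rw [hy]; exact (hs j).coprime_iff_not_dvd.2 (hsn j))
    exact ⟨⟨x, hxL⟩, ⟨y, hyL⟩, by rw [Subgroup.orderOf_mk, hx], by rw [Subgroup.orderOf_mk, hy],
      Subtype.ext hxy.eq⟩
  · -- two components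
    obtain ⟨L₁, hL₁, hL₁ne, hall'⟩ : ∃ L₁, Cfsg.IsComponent L₁ ∧ L₁ ≠ L ∧
        ∀ M' : Subgroup (G ⧸ Components.solvRadical G), Cfsg.IsComponent M' → M' = L₁ ∨ M' = L := by
      rcases hall L hL with rfl | rfl
      · exact ⟨Lb, hb, hne.symm, fun M' hM' => (hall M' hM').symm⟩
      · exact ⟨La, ha, hne, hall⟩
    obtain ⟨K₁, _, _, l, hK, hd, g₁, hg₁, hr₁⟩ := component_copy hm hrad hBX hSz hL₁
    have hlm : l ≤ m := by have := Nat.le_of_dvd (by omega) hd; omega
    have hcomm : ∀ s t, Commute (g₁ s) (f t) := fun s t => by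
      have h1 := commutator_eq_bot_iff_le_centralizer.1 (Components.components_commute hL₁ hL hL₁ne)
        (hr₁ ▸ ⟨s, rfl⟩ : g₁ s ∈ L₁)
      exact (mem_centralizer_iff.1 h1 (f t) (hfr ▸ ⟨t, rfl⟩)).symm
    have hcent : ∀ g, (∀ s, g * g₁ s = g₁ s * g) → (∀ s, g * f s = f s * g) → g = 1 := fun g h1 h2 =>
      eq_one_of_centralises hrad fun M' hM' x hx => by
        rcases hall' M' hM' with rfl | rfl
        · rw [← hr₁] at hx; obtain ⟨s, rfl⟩ := hx; exact h1 s
        · rw [← hfr] at hx; obtain ⟨s, rfl⟩ := hx; exact h2 s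
    have hinj : Function.Injective (g₁.noncommCoprod f hcomm) := by
      rw [injective_iff_map_eq_one]
      rintro ⟨s, t⟩ e
      rw [MonoidHom.noncommCoprod_apply] at e
      have hs : s = 1 := center_trivial hK fun u => hg₁ (by
        rw [map_mul, map_mul, eq_inv_of_mul_eq_one_left e, ((hcomm u t).inv_right).eq])
      rw [hs, map_one, one_mul] at e
      rw [hs, show t = 1 from hf (e.trans (map_one f).symm)]
      rfl
    have hker := ker_bot h hK hd hO.bd π hπ _ hinj
    let eX : G ≃* G ⧸ Components.solvRadical G :=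
      MulEquiv.ofBijective π ⟨(MonoidHom.ker_eq_bot_iff π).1 hker, hπ⟩
    have hOX : Omega (G ⧸ Components.solvRadical G) m := ⟨hBX, fun i j hij => by
      obtain ⟨g, hg⟩ := hO.pair i j hij
      exact ⟨eX g, by rw [MulEquiv.orderOf_eq, hg]⟩⟩
    rcases eq_or_lt_of_le hlm with hlm' | hlt
    swap
    · exfalso
      have hcardne : ∀ z, L.map (MulAut.conj z).toMonoidHom ≠ L₁ := fun z e => by
        have h1 : Nat.card (L.map (MulAut.conj z).toMonoidHom) = Nat.card L₁ := by rw [e]
        rw [card_map_of_injective (f := (MulAut.conj z).toMonoidHom) (MulAut.conj z).injective] at h1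
        rw [← hfr, ← hr₁, ← Nat.card_congr (MonoidHom.ofInjective hf).toEquiv,
          ← Nat.card_congr (MonoidHom.ofInjective hg₁).toEquiv, SzMaxOrd.card_eq_sz h, SzMaxOrd.card_eq_sz hK] at h1
        have h2 := (SzMaxOrd.sub_facts hK.one_le hlt hd).1
        rw [← h1, SzMaxOrd.sz] at h2
        have h3 : 0 < SzMaxOrd.bo m := lt_of_lt_of_le (by linarith [(SzMaxOrd.facts hm).ltA]) (SzMaxOrd.facts hm).leBo
        have h4 : 1 ≤ (2 ^ (2 * m + 1)) ^ 2 := Nat.one_le_pow _ _ (pow_pos (by norm_num) _)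
        nlinarith
      have hfix : ∀ z, L.map (MulAut.conj z).toMonoidHom = L := fun z =>
        (hall' _ (map_conj_component hL z)).resolve_left (hcardne z)
      have hfix₁ : ∀ z, L₁.map (MulAut.conj z).toMonoidHom = L₁ := fun z =>
        (hall' _ (map_conj_component hL₁ z)).resolve_right fun e => hL₁ne
          (Subgroup.map_injective (MulAut.conj z).injective (e.trans (hfix z).symm))
      refine no_small h hK hd hlt hOX hg₁ hf ?_ ?_ hcomm hcent
      · rw [hr₁]; exact normalizer_eq_top_iff.1 ((eq_top_iff' _).2 fun z => nrm _ z hfix₁)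
      · rw [hfr]; exact normalizer_eq_top_iff.1 ((eq_top_iff' _).2 fun z => nrm _ z hfix)
    · obtain ⟨f₁, hf₁, hf₁r⟩ := copy_full h hK hlm' hg₁
      rw [hr₁] at hf₁r
      have hP : Pair f₁ f := ⟨hf₁, hf, fun s t => by
          obtain ⟨s', hs'⟩ := (hr₁ ▸ hf₁r : f₁.range = g₁.range).le ⟨s, rfl⟩
          rw [← hs']
          exact hcomm s' t, fun g h1 h2 => hcent g (fun s => by
          obtain ⟨s', hs'⟩ := (hr₁ ▸ hf₁r : f₁.range = g₁.range).ge ⟨s, rfl⟩
          rw [← hs']
          exact h1 s') h2⟩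
      have hstab : ∀ z, f₁.range.map (MulAut.conj z).toMonoidHom = f₁.range ∧
          f.range.map (MulAut.conj z).toMonoidHom = f.range := by
        intro z
        rw [hf₁r, hfr]
        have e1 := hall' _ (map_conj_component hL₁ z)
        have e2 := hall' _ (map_conj_component hL z)
        have hne' : L₁.map (MulAut.conj z).toMonoidHom ≠ L.map (MulAut.conj z).toMonoidHom := fun e =>
          hL₁ne (Subgroup.map_injective (MulAut.conj z).injective e)
        rcases e1 with e1 | e1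
        · exact ⟨e1, e2.resolve_left fun e => hne' (e1.trans e.symm)⟩
        · exfalso
          exact hP.no_swap h hBX (g := z) (by rw [hf₁r, hfr]; exact e1)
            (by rw [hf₁r, hfr]; exact e2.resolve_right fun e => hne' (e1.trans e.symm))
      have hsurj : Function.Surjective (f₁.noncommCoprod f hP.comm) := fun z =>
        hP.eq_prod h hm2 hBX (mem_normalizer_of_map_conj (hstab z).1) (mem_normalizer_of_map_conj (hstab z).2)
      exact ⟨eX.trans (MulEquiv.ofBijective _ ⟨hP.prod_injective h, hsurj⟩).symm⟩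

end Cfsg.Agent.SzSquare
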