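import Cfsg.Agent.Lib.SzSquare.Spec
import Cfsg.Agent.Lib.Suzuki.TorType
import Cfsg.Agent.Lib.Suzuki.Out
import Cfsg.Agent.Lib.SpecTri.Groups

/-!
Facts about `Sz(q)`: element orders, the Frobenius subgroups and the field automorphisms.
-/

set_option autoImplicit false
set_option linter.style.haveILetI false
set_option linter.unusedSectionVars false

namespace Cfsg.Agent.SzSquare

open Cfsg.Agent.Suzuki

/-- A group `C` with an operator `u` of order `o` whose powers act freely. -/
structure Frob {K : Type*} [Group K] (C : Subgroup K) (u : K) (o : ℕ) : Prop where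
  ord : orderOf u = o
  norm : u ∈ Subgroup.normalizer (C : Set K)
  fpf : ∀ i, 0 < i → i < o → ∀ c ∈ C, u ^ i * c = c * u ^ i → c = 1
  ne : C ≠ ⊥

variable {F : Type*} [Field F] [Fintype F] {m : ℕ} (h : SzField F m)
include h

theorem orderOf_H (k : Fˣ) : orderOf (H h k) = orderOf k :=
  orderOf_injective (HHom h) (H_injective h) k

theorem orderOf_T_one : orderOf (T h (1 : F) 0) = 4 := by
  have : Fact (Nat.Prime 2) := ⟨Nat.prime_two⟩
  refine (orderOf_eq_prime_pow (n := 1) (p := 2) (by rw [pow_one, pow_two]; exact T_one_zero_sq_ne h) ?_).trans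
    (by norm_num)
  rw [pow_succ, pow_mul, pow_one, pow_two, pow_two, T_sq, T_sq]
  exact (eq_one_iff_T h).mpr ⟨rfl, by simp⟩

/-- Every element order divides one of the four kinds. -/
theorem exists_kind (g : Cfsg.Sz F m) : ∃ i, orderOf g ∣ M m i := by
  by_cases hg : g = 1
  · exact ⟨0, by rw [hg, orderOf_one]; exact one_dvd _⟩
  rcases classify h hg with ⟨u, hu⟩ | ⟨u, hu⟩ | ⟨C, hC, hgC⟩
  · exact ⟨0, orderOf_dvd_of_pow_eq_one (pow_four_of_conj_root h hu)⟩
  · exact ⟨1, orderOf_conj_eq u g ▸ orderOf_dvd_torus h hu⟩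
  · obtain ⟨A, B, -, -, hA, hB, -, -, hall⟩ := exists_tori h
    have hd := member_orderOf_dvd h hC hgC
    rcases hall C hC with e | e
    · exact ⟨2, by rw [ConjTo.card_eq h e, hA] at hd; exact hd⟩
    · exact ⟨3, by rw [ConjTo.card_eq h e, hB] at hd; exact hd⟩

/-- The two tori by kind. -/
theorem exists_member_kind {i : Fin 4} (hi : i = 2 ∨ i = 3) :
    ∃ C : Subgroup (Cfsg.Sz F m), IsMember C ∧ Nat.card C = M m i := by
  obtain ⟨A, B, hA, hB, hcA, hcB, -⟩ := exists_tori h
  rcases hi with rfl | rfl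
  · exact ⟨A, hA, hcA⟩
  · exact ⟨B, hB, hcB⟩

/-- Every kind is an element order. -/
theorem exists_order (i : Fin 4) : ∃ g : Cfsg.Sz F m, orderOf g = M m i := by
  by_cases h0 : i = 0
  · subst h0; exact ⟨_, orderOf_T_one h⟩
  by_cases h1 : i = 1
  · subst h1
    obtain ⟨k, -, -, hk⟩ := exists_gen h
    exact ⟨H h k, by rw [orderOf_H, hk]; rfl⟩
  obtain ⟨C, hC, hc⟩ := exists_member_kind h (i := i) (by fin_cases i <;> simp_all)
  haveI := member_isCyclic h hC
  obtain ⟨g, hg⟩ := IsCyclic.exists_ofOrder_eq_natCard (α := C)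
  exact ⟨g.1, by rw [Subgroup.orderOf_coe, hg, hc]⟩

theorem bounded : Bounded (Cfsg.Sz F m) m := fun g => by
  obtain ⟨i, hi⟩ := exists_kind h g
  by_cases h0 : i = 0
  · exact ⟨0, 1, by decide, h0 ▸ hi.mul_right _⟩
  · exact ⟨i, 0, h0, hi.mul_right _⟩

/-- Commuting elements of two kinds: one of them is trivial. -/
theorem commute_kinds {x y : Cfsg.Sz F m} (hc : Commute x y) {i j : Fin 4} (hij : i ≠ j)
    (hx : orderOf x ∣ M m i) (hy : orderOf y ∣ M m j) : x = 1 ∨ y = 1 := by
  have hm := h.one_le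
  obtain ⟨k, hk⟩ := exists_kind h (x * y)
  have hco : (orderOf x).Coprime (orderOf y) :=
    ((M_coprime hm hij).coprime_dvd_left hx).coprime_dvd_right hy
  rw [hc.orderOf_mul_eq_mul_orderOf_of_coprime hco] at hk
  by_cases hki : k = i
  · right
    refine orderOf_eq_one_iff.1 (eq_one_of_dvd_two hm hij ?_ hy)
    exact hki ▸ (dvd_mul_left _ _).trans hk
  · left
    exact orderOf_eq_one_iff.1 (eq_one_of_dvd_two hm hki ((dvd_mul_right _ _).trans hk) hx)

/-- A torus element acts freely on `Z`. -/
theorem frob_z {o : ℕ} (ho : o ∣ M m 1) :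
    ∃ u : Cfsg.Sz F m, Frob (zGroup h) u o := by
  obtain ⟨k, -, -, hk⟩ := exists_gen h
  obtain ⟨c, hc⟩ := ho
  rw [M1] at hc
  have hpos : 0 < o * c := hc ▸ M_pos h.one_le 1
  have hc0 : c ≠ 0 := by rintro rfl; simp at hpos
  set k' := k ^ c with hk'
  have hk'o : orderOf k' = o := by
    rw [hk', orderOf_pow' _ hc0, hk, hc, Nat.gcd_mul_left_left, Nat.mul_div_cancel _ (Nat.pos_of_ne_zero hc0)]
  refine ⟨H h k', by rw [orderOf_H, hk'o], ?_, fun i hi hio z hz hcomm => ?_, ?_⟩
  · refine Subgroup.mem_normalizer_fintype fun z hz => ?_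
    obtain ⟨b, rfl⟩ := hz
    rw [H_conj_zero]
    exact ⟨_, rfl⟩
  · obtain ⟨b, rfl⟩ := hz
    by_contra hb1
    have hb : b ≠ 0 := fun e => hb1 (by rw [e, T_zero])
    rw [show H h k' ^ i = H h (k' ^ i) from ((HHom h).map_pow k' i).symm] at hcomm
    have h1 := H_conj_zero h (k' ^ i) b
    rw [hcomm, mul_inv_cancel_right] at h1
    have h2 := (T_injective h h1).2
    have h3 : k' ^ i = 1 := by
      refine Units.ext (h.θ_mul_self_injective (k' ^ i).ne_zero one_ne_zero ?_)
      rw [Units.val_one, θ_one, mul_one]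
      exact mul_right_cancel₀ hb (h2.symm.trans (one_mul b).symm)
    have h4 := Nat.le_of_dvd hi (orderOf_dvd_of_pow_eq_one h3)
    omega
  · intro e
    have := card_zGroup h
    rw [e, Subgroup.card_bot] at this
    exact absurd this.symm (Nat.one_lt_two_pow (by omega)).ne'

/-- `W` inverts the split torus. -/
theorem frob_w : Frob (torus h) (W h) 2 := by
  have hW1 : W h ≠ 1 := fun e => exists_factor_not_borel h (e ▸ (borel F m).one_mem)
  refine ⟨orderOf_eq_prime (by rw [pow_two, W_mul_self]) hW1, ?_, fun i hi hi2 c hc hcomm => ?_, ?_⟩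
  · refine Subgroup.mem_normalizer_fintype fun c hc => ?_
    obtain ⟨k, rfl⟩ := (mem_torus h).1 hc
    rw [W_inv, W_conj_H]
    exact (mem_torus h).2 ⟨_, rfl⟩
  · obtain ⟨k, rfl⟩ := (mem_torus h).1 hc
    obtain rfl : i = 1 := by omega
    rw [pow_one] at hcomm
    have h1 := W_conj_H h k
    rw [hcomm, mul_assoc, W_mul_self, mul_one] at h1
    have h2 : k = k⁻¹ := H_injective h h1
    rw [units_sq_eq_one h (mul_eq_one_iff_eq_inv.2 h2), H_one]
  · intro e
    have := card_torus h
    rw [e, Subgroup.card_bot] at this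
    exact absurd this.symm (one_lt_M h.one_le 1).ne'

/-- An element of order four acts freely on a torus of order `q ± √(2q) + 1`. -/
theorem frob_member {C : Subgroup (Cfsg.Sz F m)} (hC : IsMember C) : ∃ u, Frob C u 4 := by
  have hT := torType_member h hC
  haveI : Fact (Nat.Prime 2) := ⟨Nat.prime_two⟩
  set N := Subgroup.normalizer (C : Set (Cfsg.Sz F m))
  obtain ⟨P⟩ : Nonempty (Sylow 2 N) := inferInstance
  have hP : Nat.card P = 4 := by
    rw [P.card_eq_multiplicity, hT.card_normalizer,
      Nat.factorization_mul (by norm_num) (by have := hT.one_lt; omega), Finsupp.add_apply,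
      Nat.factorization_eq_zero_of_not_dvd hT.odd, show (4 : ℕ) = 2 ^ 2 by norm_num,
      Nat.prime_two.factorization_pow, Finsupp.single_eq_same]
  by_cases hex : ∃ u ∈ (P : Subgroup N), orderOf u = 4
  · obtain ⟨u, -, hu⟩ := hex
    refine ⟨u.1, by rw [Subgroup.orderOf_coe, hu], u.2, fun i hi hi4 c hc hcomm => ?_, ?_⟩
    · by_contra hc1
      have h1 : u.1 ^ i ∈ C := by
        rw [← hT.ti c hc hc1]
        exact Subgroup.mem_centralizer_singleton_iff.2 hcomm
      have h2 := hT.not_orderOf_two h h1 (n := 2) (by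
        rw [← pow_mul, mul_comm, pow_mul, show (2 : ℕ) ^ 2 = 4 by norm_num,
          show u.1 ^ 4 = 1 by
            have e := pow_orderOf_eq_one u.1
            rwa [Subgroup.orderOf_coe, hu] at e, one_pow])
      have h3 := Nat.le_of_dvd hi (orderOf_dvd_of_pow_eq_one h2)
      rw [Subgroup.orderOf_coe, hu] at h3
      omega
    · intro e
      have := hT.one_lt
      rw [e, Subgroup.card_bot] at this
      omega
  · exfalso
    push Not at hex
    have hinv : ∀ u : (P : Subgroup N), u ≠ 1 → orderOf ((u : N) : Cfsg.Sz F m) = 2 := by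
      intro u hu
      have h4 : orderOf u ∣ 2 ^ 2 := (orderOf_dvd_natCard u).trans (by rw [hP]; norm_num)
      obtain ⟨k, hk, he⟩ := (Nat.dvd_prime_pow Nat.prime_two).1 h4
      have hne := hex u u.2
      rw [Subgroup.orderOf_coe, he] at hne
      rw [Subgroup.orderOf_coe, Subgroup.orderOf_coe, he]
      interval_cases k
      · rw [pow_zero, orderOf_eq_one_iff] at he; exact absurd he hu
      · rfl
      · exact absurd rfl hne
    haveI : Nontrivial (P : Subgroup N) := Finite.one_lt_card_iff_nontrivial.1 (by omega)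
    obtain ⟨a, ha⟩ := exists_ne (1 : (P : Subgroup N))
    obtain ⟨b, hb1, hba⟩ : ∃ b : (P : Subgroup N), b ≠ 1 ∧ b ≠ a := by
      classical
      by_contra hall
      push Not at hall
      have : Fintype (P : Subgroup N) := Fintype.ofFinite _
      have h1 : (Finset.univ : Finset (P : Subgroup N)).card ≤ ({1, a} : Finset _).card :=
        Finset.card_le_card fun z _ => by
          by_cases hz : z = 1 <;> simp [hz]
          exact hall z hz
      rw [Finset.card_univ, ← Nat.card_eq_fintype_card, hP] at h1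
      have := Finset.card_le_two (a := (1 : (P : Subgroup N))) (b := a)
      omega
    set x := ((a : N) : Cfsg.Sz F m)
    set y := ((b : N) : Cfsg.Sz F m)
    have hab : a * b ≠ 1 := fun e => hba (by
      have hsq : a * a = 1 := Subtype.ext (Subtype.ext (by
        show x * x = 1
        rw [← pow_two, ← hinv a ha, pow_orderOf_eq_one]))
      exact mul_left_cancel (e.trans hsq.symm))
    obtain ⟨c, hcC, hc1⟩ := C.bot_or_exists_ne_one.resolve_left (fun e => by
      have := hT.one_lt; rw [e, Subgroup.card_bot] at this; omega)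
    have hxc := hT.invert h (a : N).2 (hinv a ha) hcC
    have hyc := hT.invert h (b : N).2 (hinv b hb1) hcC
    have hmem : x * y ∈ C := by
      rw [← hT.ti c hcC hc1, Subgroup.mem_centralizer_singleton_iff]
      have h1 : x * y * c * (x * y)⁻¹ = c := by
        calc x * y * c * (x * y)⁻¹ = x * (y * c * y⁻¹) * x⁻¹ := by group
          _ = (x * c * x⁻¹)⁻¹ := by rw [hyc]; group
          _ = c := by rw [hxc, inv_inv]
      exact (mul_inv_eq_iff_eq_mul.1 h1).trans rfl
    have h2 := hinv _ hab
    rw [show (((a * b : (P : Subgroup N)) : N) : Cfsg.Sz F m) = x * y from rfl] at h2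
    rw [hT.not_orderOf_two h hmem (n := 1) (by rw [pow_one, ← h2, pow_orderOf_eq_one]), orderOf_one] at h2
    omega

/-- Subgroups of the same prime order are conjugate. -/
theorem exists_conj_zpowers {s : ℕ} [hs : Fact s.Prime] {x y : Cfsg.Sz F m} (hx : orderOf x = s)
    (hy : orderOf y = s) : ∃ u, u * x * u⁻¹ ∈ Subgroup.zpowers y := by
  rcases prime_dvd_card_cases h hs.out (hx ▸ orderOf_dvd_natCard x) with e | e | e
  · subst e
    obtain ⟨u, hu⟩ := isConj_iff.1 (involutions_conj h hx hy)
    exact ⟨u, hu ▸ Subgroup.mem_zpowers _⟩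
  · obtain ⟨u, hu⟩ := exists_conj_mem_torus h e hx
    obtain ⟨v, hv⟩ := exists_conj_mem_torus h e hy
    obtain ⟨j, hj⟩ := SpecTri.zpowers_eq_of_cyclic (isCyclic_torus h) hv hu
      (by rw [orderOf_conj_eq, hy]) (by rw [orderOf_conj_eq, hx])
    refine ⟨v⁻¹ * u, j, ?_⟩
    have hj' : v * y ^ j * v⁻¹ = u * x * u⁻¹ := by
      rw [← conj_zpow]; exact hj
    show y ^ j = _
    calc y ^ j = v⁻¹ * (v * y ^ j * v⁻¹) * v := by group
      _ = _ := by rw [hj']; group
  · obtain ⟨C, hC, hxC, hcard⟩ : ∃ C, IsMember C ∧ x ∈ C ∧ s ∣ Nat.card C := by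
      refine ⟨_, ⟨s, x, hs.out, e, hx, rfl⟩, Subgroup.mem_centralizer_singleton_iff.2 rfl, ?_⟩
      have hxC : x ∈ Subgroup.centralizer {x} := Subgroup.mem_centralizer_singleton_iff.2 rfl
      have h1 := orderOf_dvd_natCard (⟨x, hxC⟩ : Subgroup.centralizer {x})
      rwa [Subgroup.orderOf_mk, hx] at h1
    have hC' : IsMember (Subgroup.centralizer {y} : Subgroup (Cfsg.Sz F m)) := ⟨s, y, hs.out, e, hy, rfl⟩
    have hyC' : y ∈ Subgroup.centralizer {y} := Subgroup.mem_centralizer_singleton_iff.2 rfl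
    have hc' : s ∣ Nat.card (Subgroup.centralizer {y} : Subgroup (Cfsg.Sz F m)) := by
      have h1 := orderOf_dvd_natCard (⟨y, hyC'⟩ : Subgroup.centralizer {y})
      rwa [Subgroup.orderOf_mk, hy] at h1
    obtain ⟨v, hv⟩ := conjTo_of_common_prime h hC hC' hs.out hcard hc'
    have hvy : v * y * v⁻¹ ∈ C := (hv y).1 hyC'
    obtain ⟨j, hj⟩ := SpecTri.zpowers_eq_of_cyclic (member_isCyclic h hC) hvy hxC
      (by rw [orderOf_conj_eq, hy]) hx
    refine ⟨v⁻¹, j, ?_⟩
    have hj' : v * y ^ j * v⁻¹ = x := by rw [← conj_zpow]; exact hj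
    show y ^ j = _
    rw [← hj']
    group

/-! ### Automorphisms -/

theorem frobAut_coe (j : ℕ) (g : Cfsg.Sz F m) (a b : Fin 4) :
    (frobAut h j g).1.1 a b = g.1.1 a b ^ 2 ^ j := by
  show (frobSL h j g.1).1 a b = _
  rw [frobSL_coe]
  simp [iterateFrobenius_def]

theorem frobAut_mul (i j : ℕ) : frobAut h i * frobAut h j = frobAut h (j + i) := by
  refine MulEquiv.ext fun g => Subtype.ext (Subtype.ext (Matrix.ext fun a b => ?_))
  rw [MulAut.mul_apply, frobAut_coe, frobAut_coe, frobAut_coe, ← pow_mul, ← pow_add]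

theorem frobAut_zero : frobAut h 0 = 1 := by
  refine MulEquiv.ext fun g => Subtype.ext (Subtype.ext (Matrix.ext fun a b => ?_))
  rw [frobAut_coe, pow_zero, pow_one]
  rfl

theorem frobAut_pow (j k : ℕ) : frobAut h j ^ k = frobAut h (k * j) := by
  induction k with
  | zero => rw [pow_zero, zero_mul, frobAut_zero]
  | succ k ih => rw [pow_succ, ih, frobAut_mul]; congr 1; ring

theorem frobAut_card (j : ℕ) : frobAut h j ^ (2 * m + 1) = 1 := by
  rw [frobAut_pow]
  refine MulEquiv.ext fun g => Subtype.ext (Subtype.ext (Matrix.ext fun a b => ?_))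
  rw [frobAut_coe, pow_mul (2 : ℕ), ← h.card, FiniteField.pow_card_pow]
  rfl

/-- The `2m+1`-st power of an automorphism is inner. -/
theorem aut_pow_inner (α : MulAut (Cfsg.Sz F m)) : ∃ u, α ^ (2 * m + 1) = MulAut.conj u := by
  have h1 : (QuotientGroup.mk α : Cfsg.Out (Cfsg.Sz F m)) ^ (2 * m + 1) = 1 := by
    rw [← card_out h]; exact pow_card_eq_one'
  rw [← QuotientGroup.mk_pow, QuotientGroup.eq_one_iff] at h1
  obtain ⟨u, hu⟩ := h1
  exact ⟨u, hu.symm⟩

theorem pow_kinds (g : Cfsg.Sz F m) :
    g ^ (4 * ((2 ^ (2 * m + 1) - 1) * ((2 ^ (2 * m + 1)) ^ 2 + 1))) = 1 := by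
  obtain ⟨i, hi⟩ := exists_kind h g
  refine orderOf_dvd_iff_pow_eq_one.1 (hi.trans ?_)
  rw [M_mul h.one_le]
  fin_cases i
  · exact dvd_mul_right _ _
  · exact (dvd_mul_right _ _).mul_left _
  · exact ((dvd_mul_right _ _).mul_left _).mul_left _
  · exact ((dvd_mul_left _ _).mul_left _).mul_left _

/-- The exponent of the automorphism group. -/
theorem aut_expo (α : MulAut (Cfsg.Sz F m)) : α ^ expo m = 1 := by
  obtain ⟨u, hu⟩ := aut_pow_inner h α
  rw [expo, mul_comm, pow_mul, hu, ← map_pow, pow_kinds h u, map_one]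

/-- An automorphism centralising an element of primitive prime order is inner. -/
theorem inner_of_fix {p : ℕ} (hP : Prim m p) {x : Cfsg.Sz F m} (hx : orderOf x = p)
    {α : MulAut (Cfsg.Sz F m)} (hα : α x = x) : ∃ u, α = MulAut.conj u := by
  haveI := Fact.mk hP.prime
  obtain ⟨w, hw⟩ := exists_conj_mem_torus h (show p ∣ 2 ^ (2 * m + 1) - 1 from hP.dvd) hx
  obtain ⟨k, hk⟩ := (mem_torus h).1 hw
  set β := MulAut.conj w * α * (MulAut.conj w)⁻¹ with hβ
  have hβk : β (H h k) = H h k := by
    rw [← hk, hβ]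
    simp only [MulAut.mul_apply, MulAut.conj_apply]
    rw [show (MulAut.conj w)⁻¹ (w * x * w⁻¹) = x by
      simp only [← map_inv, MulAut.conj_apply]; group, hα]
  obtain ⟨j, hj, u, hu⟩ := exists_inner_mul_frob h β
  have hko : orderOf k = p := by rw [← orderOf_H h, ← hk, orderOf_conj_eq, hx]
  have hk1 : k ≠ 1 := fun e => by rw [e, orderOf_one] at hko; exact hP.prime.ne_one hko.symm
  rw [hu, MulAut.mul_apply, frobAut_H, MulAut.conj_apply] at hβk
  set k' := k ^ 2 ^ j
  have hk'1 : k' ≠ 1 := fun e => by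
    have h1 := orderOf_dvd_of_pow_eq_one e
    rw [hko] at h1
    have h2 := (Nat.prime_dvd_prime_iff_eq hP.prime Nat.prime_two).1 (hP.prime.dvd_of_dvd_pow h1)
    exact (Nat.not_even_iff_odd.2 (mer_odd m)) (even_iff_two_dvd.2 (by
      have h3 := hP.dvd; rwa [h2] at h3))
  -- `u` normalises the torus
  have hN : u ∈ Subgroup.normalizer (torus h : Set (Cfsg.Sz F m)) := by
    refine Subgroup.mem_normalizer_fintype fun c hc => ?_
    rw [SetLike.mem_coe] at hc ⊢
    rw [← centralizer_H h hk1, Subgroup.mem_centralizer_singleton_iff, ← hβk]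
    have hc' : c * H h k' = H h k' * c := torus_comm h hc ((mem_torus h).2 ⟨_, rfl⟩)
    calc u * c * u⁻¹ * (u * H h k' * u⁻¹) = u * (c * H h k') * u⁻¹ := by group
      _ = u * (H h k' * c) * u⁻¹ := by rw [hc']
      _ = u * H h k' * u⁻¹ * (u * c * u⁻¹) := by group
  have hcases : k = k' ∨ k = k'⁻¹ := by
    set N := Subgroup.normalizer (torus h : Set (Cfsg.Sz F m))
    have hidx : ((torus h).subgroupOf N).index = 2 := by
      have h1 := ((torus h).subgroupOf N).card_mul_index
      rw [Nat.card_congr (Subgroup.subgroupOfEquivOfLe (Subgroup.le_normalizer (H := torus h))).toEquiv,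
        card_normalizer_torus h, mul_comm 2] at h1
      exact Nat.eq_of_mul_eq_mul_left (Nat.card_pos (α := torus h)) h1
    have hWN : W h ∈ N := (frob_w h).norm
    have hWt : W h ∉ torus h := fun e => by
      have h2 := W_conj_H h k
      rw [torus_comm h e ((mem_torus h).2 ⟨k, rfl⟩), mul_assoc, W_mul_self, mul_one] at h2
      exact hk1 (units_sq_eq_one h (mul_eq_one_iff_eq_inv.2 (H_injective h h2)))
    by_cases hut : u ∈ torus h
    · left
      rw [torus_comm h hut ((mem_torus h).2 ⟨k', rfl⟩), mul_inv_cancel_right] at hβk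
      exact (H_injective h hβk).symm
    · right
      have h1 : W h * u ∈ torus h := by
        have h2 := Subgroup.mul_mem_iff_of_index_two hidx (a := ⟨W h, hWN⟩) (b := ⟨u, hN⟩)
        simp only [Subgroup.mem_subgroupOf, Subgroup.coe_mul] at h2
        exact h2.2 ⟨fun e => absurd e hWt, fun e => absurd e hut⟩
      have h2 : W h * H h k * W h = H h k' := by
        rw [← hβk]
        calc W h * (u * H h k' * u⁻¹) * W h = (W h * u) * H h k' * (W h * u)⁻¹ * (W h * W h) := by
              rw [mul_inv_rev, W_inv]; simp only [mul_assoc]; rw [W_mul_self]; simp [W_mul_self]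
          _ = H h k' := by
              rw [W_mul_self, mul_one, torus_comm h h1 ((mem_torus h).2 ⟨k', rfl⟩), mul_inv_cancel_right]
      rw [W_conj_H] at h2
      rw [← H_injective h h2, inv_inv]
  have hj0 : j = 0 := by
    by_contra hj0
    apply hP.prim (2 * j) (by omega) (by omega) (by omega)
    have h1 : k ^ (2 ^ (2 * j) - 1) = 1 := by
      have h2 : k ^ 2 ^ (2 * j) = k := by
        rw [show 2 * j = j + j by ring, pow_add, pow_mul]
        rcases hcases with e | e
        · show k' ^ 2 ^ j = k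
          rw [← e]
          exact e.symm
        · show k' ^ 2 ^ j = k
          have e' : k' = k⁻¹ := by rw [e, inv_inv]
          rw [e', inv_pow]
          show k'⁻¹ = k
          exact e.symm
      calc k ^ (2 ^ (2 * j) - 1) = k ^ (2 ^ (2 * j) - 1) * k * k⁻¹ := (mul_inv_cancel_right _ _).symm
        _ = k ^ 2 ^ (2 * j) * k⁻¹ := by rw [← pow_succ, Nat.sub_add_cancel Nat.one_le_two_pow]
        _ = 1 := by rw [h2, mul_inv_cancel]
    exact hko ▸ orderOf_dvd_of_pow_eq_one h1
  refine ⟨w⁻¹ * u * w, ?_⟩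
  rw [hj0, frobAut_zero, mul_one] at hu
  rw [map_mul, map_mul, map_inv, ← hu, hβ]
  group

/-- An element of order five fixed by the field automorphisms. -/
theorem five : orderOf (W h * T h (0 : F) 1) = 5 ∧ ∀ j, frobAut h j (W h * T h 0 1) = W h * T h 0 1 := by
  haveI : Fact (Nat.Prime 5) := ⟨by norm_num⟩
  refine ⟨orderOf_eq_prime ?_ ?_, fun j => by simp [frobAut_W, frobAut_T]⟩
  · apply Subtype.ext
    apply Subtype.ext
    have h2 := h.two_eq_zero
    show (((W h * T h (0 : F) 1) ^ 5 : Cfsg.Sz F m).1).1 = _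
    simp only [SubmonoidClass.coe_pow, Subgroup.coe_mul, Matrix.SpecialLinearGroup.coe_pow,
      Matrix.SpecialLinearGroup.coe_mul]
    show ((wEl : Matrix.SpecialLinearGroup (Fin 4) F).1 * (tEl m (0 : F) 1).1) ^ 5 = 1
    rw [tEl_coe, wEl_coe]
    simp only [pow_succ, pow_zero, one_mul, fz_eq, θ_zero, θ_one, Matrix.cons_mul, Matrix.vecMul_cons]
    ext a b
    fin_cases a <;> fin_cases b <;> simp [Matrix.mul_apply, Fin.sum_univ_succ] <;>
      first
      | linear_combination (0 : F) * h2
      | linear_combination (1 : F) * h2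
      | linear_combination (2 : F) * h2
      | linear_combination (3 : F) * h2
      | linear_combination (4 : F) * h2
      | linear_combination (5 : F) * h2
      | linear_combination (6 : F) * h2
      | linear_combination (7 : F) * h2
      | linear_combination (8 : F) * h2
      | linear_combination (9 : F) * h2
      | linear_combination (10 : F) * h2
      | linear_combination (11 : F) * h2
      | linear_combination (12 : F) * h2
      | linear_combination (13 : F) * h2
      | linear_combination (14 : F) * h2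
      | linear_combination (15 : F) * h2
      | linear_combination (16 : F) * h2
      | linear_combination (-1 : F) * h2
      | linear_combination (-2 : F) * h2
  · intro e
    refine exists_factor_not_borel h ?_
    rw [eq_inv_of_mul_eq_one_left e]
    exact inv_mem (T_mem_borel h 0 1)

end Cfsg.Agent.SzSquare
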