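import Cfsg.Agent.Lib.SpecTri.Frob
import Cfsg.Agent.Lib.SzSquare.SzFacts

/-!
Norms of freely acting operators on elementary abelian groups, and orders of lifts.
-/

set_option autoImplicit false
set_option linter.style.haveILetI false
set_option linter.unusedSectionVars false

namespace Cfsg.Agent.SzSquare

open scoped IsMulCommutative

universe u

section Norm

variable {K : Type*} [Group K] {V : Type*} [CommGroup V] (ρ : K →* MulAut V)

/-- The product of the conjugates of `v` under the first `o` powers of `u`. -/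
def normProd (u : K) (o : ℕ) (v : V) : V := ∏ i ∈ Finset.range o, ρ (u ^ i) v

theorem fixed_normProd {u : K} {o : ℕ} (hu : u ^ o = 1) (v : V) :
    ρ u (normProd ρ u o v) = normProd ρ u o v := by
  rw [normProd, map_prod]
  simp only [← MulAut.mul_apply, ← map_mul, ← pow_succ']
  have h1 := Finset.prod_range_succ' (fun i => ρ (u ^ i) v) o
  rw [Finset.prod_range_succ, hu, pow_zero] at h1
  exact (mul_right_cancel h1).symm

/-- A freely acting operator has a non-trivial norm unless the kernel acts trivially. -/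
theorem exists_normProd [Finite K] {r : ℕ} [Fact r.Prime] (hV : ∀ v : V, v ^ r = 1) {C : Subgroup K}
    {u : K} {o : ℕ} (ho : 0 < o) (hF : Frob C u o) (hC : (Nat.card C).Coprime r)
    (hne : ∃ c ∈ C, ρ c ≠ 1) : ∃ v, normProd ρ u o v ≠ 1 := by
  by_contra hall
  push Not at hall
  have hmod : ∀ v : Additive V, r • v = 0 := by
    intro v
    change Additive.ofMul ((Additive.toMul v) ^ r) = 0
    rw [hV]; rfl
  let instM : Module (ZMod r) (Additive V) := AddCommGroup.zmodModule (n := r) hmod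
  let θ : MulAut C := C.normalizerMonoidHom ⟨u, hF.norm⟩
  let τ : C →* Module.End (ZMod r) (Additive V) :=
    MonoidHom.comp (CoprimeFree.autEnd r V) (MonoidHom.comp ρ C.subtype)
  let X : Module.End (ZMod r) (Additive V) := CoprimeFree.autEnd r V (ρ u)
  have hcast : (Nat.card C : ZMod r) ≠ 0 := fun e => by
    rw [ZMod.natCast_eq_zero_iff] at e
    exact (Fact.out : r.Prime).ne_one (Nat.dvd_one.1 (hC ▸ Nat.dvd_gcd e dvd_rfl))
  have hsum : ∑ i ∈ Finset.range o, X ^ i = 0 := by
    refine LinearMap.ext fun v => ?_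
    rw [LinearMap.sum_apply, LinearMap.zero_apply]
    refine Additive.toMul.injective ?_
    rw [toMul_sum, toMul_zero]
    refine Eq.trans (Finset.prod_congr rfl fun i _ => ?_) (hall (Additive.toMul v))
    show Additive.toMul ((X ^ i) v) = ρ (u ^ i) (Additive.toMul v)
    rw [show X ^ i = CoprimeFree.autEnd r V (ρ (u ^ i)) by rw [map_pow ρ, map_pow]]
    rfl
  have hconj : ∀ t, X * τ t = τ (θ t) * X := fun t => by
    show CoprimeFree.autEnd r V (ρ u) * CoprimeFree.autEnd r V (ρ t) =
      CoprimeFree.autEnd r V (ρ (θ t : C)) * CoprimeFree.autEnd r V (ρ u)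
    rw [← map_mul, ← map_mul, ← map_mul, ← map_mul]
    congr 2
    show u * (t : K) = u * (t : K) * u⁻¹ * u
    rw [inv_mul_cancel_right]
  have htriv := SpecTri.frobenius_linear ho hcast τ X θ hsum hconj fun i hi hio t ht => by
    refine Subtype.ext (hF.fpf i hi hio t t.2 ?_)
    rw [show θ ^ i = C.normalizerMonoidHom (⟨u, hF.norm⟩ ^ i) from (map_pow _ _ _).symm] at ht
    exact mul_inv_eq_iff_eq_mul.1 (show u ^ i * (t : K) * (u ^ i)⁻¹ = t from congrArg Subtype.val ht)
  obtain ⟨c, hc, hne⟩ := hne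
  refine hne (MulEquiv.ext fun w => ?_)
  have h1 := congrArg (fun f : Module.End (ZMod r) (Additive V) => Additive.toMul (f (Additive.ofMul w)))
    (htriv ⟨c, hc⟩)
  exact h1

/-- A freely acting operator fixes a non-trivial vector unless the kernel acts trivially. -/
theorem exists_fixed [Finite K] {r : ℕ} [Fact r.Prime] (hV : ∀ v : V, v ^ r = 1) {C : Subgroup K}
    {u : K} {o : ℕ} (ho : 0 < o) (hF : Frob C u o) (hC : (Nat.card C).Coprime r)
    (hne : ∃ c ∈ C, ρ c ≠ 1) : ∃ v : V, v ≠ 1 ∧ ρ u v = v := by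
  obtain ⟨v, hv⟩ := exists_normProd ρ hV ho hF hC hne
  exact ⟨_, hv, fixed_normProd ρ (hF.ord ▸ pow_orderOf_eq_one u) v⟩

end Norm

variable {X : Type u} [Group X]

/-- A power of a lift. -/
theorem lift_pow (V : Subgroup X) [IsMulCommutative V] (ρ : X →* MulAut V)
    (hρ : ∀ x (v : V), ((ρ x v : V) : X) = x * v * x⁻¹) (v : V) (y : X) (o : ℕ) :
    ((v : X) * y) ^ o = ((normProd ρ y o v : V) : X) * y ^ o := by
  induction o with
  | zero => simp [normProd]
  | succ o ih =>
    rw [pow_succ, ih, normProd, normProd, Finset.prod_range_succ, Subgroup.coe_mul, hρ, pow_succ]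
    group

/-- The order of an element whose `o`-th power has order `r`. -/
theorem mul_dvd_orderOf {Y : Type*} [Group Y] (f : X →* Y) {x : X} {o r : ℕ} [Fact r.Prime]
    (ho : 0 < o) (hx : orderOf (f x) = o) (h1 : x ^ o ≠ 1) (h2 : (x ^ o) ^ r = 1) :
    o * r ∣ orderOf x := by
  have h3 : o ∣ orderOf x := hx ▸ orderOf_map_dvd f x
  have h4 := orderOf_eq_prime h2 h1
  rw [orderOf_pow' _ ho.ne', Nat.gcd_eq_right h3] at h4
  rw [← Nat.mul_div_cancel' h3, h4]

/-- A commuting element of prime order `r` gives an order divisible by `r * o`. -/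
theorem exists_mul_dvd {x v : X} {o r : ℕ} (hr : r.Prime) (hor : o.Coprime r) (hx : o ∣ orderOf x)
    (hv : orderOf v = r) (hc : Commute x v) : ∃ g : X, o * r ∣ orderOf g := by
  by_cases hd : r ∣ orderOf x
  · exact ⟨x, hor.mul_dvd_of_dvd_of_dvd hx hd⟩
  · refine ⟨x * v, ?_⟩
    rw [hc.orderOf_mul_eq_mul_orderOf_of_coprime (by rw [hv]; exact (hr.coprime_iff_not_dvd.2 hd).symm), hv]
    exact Nat.mul_dvd_mul_right hx r

/-- The action of a quotient on an abelian normal subgroup centralised by the kernel. -/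
theorem exists_rho {Y : Type*} [Group Y] (π : X →* Y) (hπ : Function.Surjective π) (V : Subgroup X)
    [V.Normal] (hV : π.ker ≤ Subgroup.centralizer (V : Set X)) :
    ∃ ρ : Y →* MulAut V, ∀ x (v : V), ((ρ (π x) v : V) : X) = x * v * x⁻¹ := by
  have hk : π.ker ≤ (MulAut.conjNormal (G := X) (H := V)).ker := fun x hx => by
    rw [MonoidHom.mem_ker]
    refine MulEquiv.ext fun v => Subtype.ext ?_
    rw [MulAut.conjNormal_apply, MulAut.one_apply, ← Subgroup.mem_centralizer_iff.1 (hV hx) v v.2,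
      mul_inv_cancel_right]
  refine ⟨π.liftOfSurjective hπ ⟨MulAut.conjNormal, hk⟩, fun x v => ?_⟩
  rw [MonoidHom.liftOfRightInverse_comp_apply]
  exact MulAut.conjNormal_apply x v

/-- A lift with non-trivial norm has order divisible by `o * r`. -/
theorem exists_big_order {Y : Type*} [Group Y] [Finite Y] (π : X →* Y) (hπ : Function.Surjective π)
    (V : Subgroup X) [V.Normal] [IsMulCommutative V] (hV : π.ker ≤ Subgroup.centralizer (V : Set X))
    (hVk : V ≤ π.ker) {r : ℕ} [Fact r.Prime] (hVr : ∀ v ∈ V, v ^ r = 1) (ρ : Y →* MulAut V)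
    (hρ : ∀ x (v : V), ((ρ (π x) v : V) : X) = x * v * x⁻¹) {C : Subgroup Y} {u : Y} {o : ℕ}
    (ho : 0 < o) (hF : Frob C u o) (hC : (Nat.card C).Coprime r) (hne : ∃ c ∈ C, ρ c ≠ 1)
    {y : X} (hy : π y = u) (hyo : y ^ o = 1 ∨ y ^ o ∈ V) : ∃ g : X, o * r ∣ orderOf g := by
  by_cases hy1 : y ^ o = 1
  · obtain ⟨v, hv⟩ := exists_normProd ρ (fun v => Subtype.ext (hVr v v.2)) ho hF hC hne
    refine ⟨(v : X) * y, mul_dvd_orderOf π ho ?_ ?_ ?_⟩
    · rw [map_mul, show π (v : X) = 1 from hVk v.2, one_mul, hy, hF.ord]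
    all_goals rw [lift_pow V (ρ.comp π) (fun x w => hρ x w) v y o, hy1, mul_one]
    · intro e
      refine hv (Subtype.ext ?_)
      rw [← hy]
      simpa [normProd] using e
    · exact hVr _ (Subtype.coe_prop _)
  · exact ⟨y, mul_dvd_orderOf π ho (hy.symm ▸ hF.ord) hy1 (hVr _ (hyo.resolve_left hy1))⟩

end Cfsg.Agent.SzSquare
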