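import Cfsg.Agent.Lib.SzSquare.Act
import Cfsg.Agent.S3633

/-!
The socle of `G` modulo its radical is not a single copy of `Sz(q)`.
-/

set_option autoImplicit false
set_option linter.style.haveILetI false
set_option linter.unusedSectionVars false

namespace Cfsg.Agent.SzSquare

open Cfsg.Agent.Suzuki Subgroup
open scoped IsMulCommutative commutatorElement

universe u

variable {G : Type u} [Group G] {m : ℕ}

/-- Three commuting elements of three kinds do not exist. -/
theorem Bounded.three_commute [Finite G] (hm : 1 ≤ m) (hB : Bounded G m) {i₁ i₂ i₃ : Fin 4} (h12 : i₁ ≠ i₂)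
    (h13 : i₁ ≠ i₃) (h23 : i₂ ≠ i₃) {a b c : ℕ} (ha : a ∣ M m i₁) (hb : b ∣ M m i₂) (hc : c ∣ M m i₃)
    (ha1 : a ≠ 1) (hb1 : b ≠ 1) (hc1 : c ≠ 1) {x y z : G} (hx : a ∣ orderOf x) (hy : b ∣ orderOf y)
    (hz : c ∣ orderOf z) (hxy : Commute x y) (hxz : Commute x z) (hyz : Commute y z) : False := by
  have key : ∀ {w : G} {d : ℕ}, d ∣ orderOf w → orderOf (w ^ (orderOf w / d)) = d := by
    intro w d hd
    obtain ⟨e, he⟩ := hd
    have hpos := orderOf_pos w
    rw [he] at hpos
    have hd0 : 0 < d := Nat.pos_of_ne_zero fun e0 => by simp [e0] at hpos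
    have he0 : e ≠ 0 := fun e0 => by simp [e0] at hpos
    rw [he, Nat.mul_div_cancel_left _ hd0, orderOf_pow' _ he0, he, Nat.gcd_mul_left_left,
      Nat.mul_div_cancel _ (Nat.pos_of_ne_zero he0)]
  set x' := x ^ (orderOf x / a)
  set y' := y ^ (orderOf y / b)
  set z' := z ^ (orderOf z / c)
  have hab : (orderOf x').Coprime (orderOf y') := by
    rw [key hx, key hy]; exact ((M_coprime hm h12).coprime_dvd_left ha).coprime_dvd_right hb
  have h1 := (hxy.pow_pow _ _ : Commute x' y').orderOf_mul_eq_mul_orderOf_of_coprime hab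
  have hcomm : Commute (x' * y') z' := ((hxz.pow_pow _ _).mul_left (hyz.pow_pow _ _))
  have h2 := hcomm.orderOf_mul_eq_mul_orderOf_of_coprime (by
    rw [h1, key hx, key hy, key hz]
    exact (((M_coprime hm h13).coprime_dvd_left ha).coprime_dvd_right hc).mul_left
      (((M_coprime hm h23).coprime_dvd_left hb).coprime_dvd_right hc))
  rw [h1, key hx, key hy, key hz] at h2
  exact hB.three hm h12 h13 h23 ha hb hc ha1 hb1 hc1 (g := x' * y' * z')
    (h2 ▸ (dvd_mul_right a b).mul_right c) (h2 ▸ (dvd_mul_left b a).mul_right c) (h2 ▸ dvd_mul_left c _)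

/-- A solvable group divisible by three primes has two of them joined. -/
theorem exists_joined {D : Type*} [Group D] [Finite D] [Group.IsSolvable D] {a b c : ℕ} (ha : a.Prime)
    (hb : b.Prime) (hc : c.Prime) (hab : a ≠ b) (hac : a ≠ c) (hbc : b ≠ c) (da : a ∣ Nat.card D)
    (db : b ∣ Nat.card D) (dc : c ∣ Nat.card D) :
    ∃ r ∈ ({a, b, c} : Finset ℕ), ∃ s ∈ ({a, b, c} : Finset ℕ), r ≠ s ∧ ∃ z : D, orderOf z = r * s := by
  classical
  by_contra hall
  push Not at hall
  have hρ : ∀ r ∈ ({a, b, c} : Finset ℕ), r.Prime ∧ r ∣ Nat.card D := by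
    intro r hr
    simp only [Finset.mem_insert, Finset.mem_singleton] at hr
    rcases hr with rfl | rfl | rfl <;> exact ⟨by assumption, by assumption⟩
  have h3 : ({a, b, c} : Finset ℕ).card = 3 := by simp [hab, hac, hbc]
  have h1 := (S3633.result ({a, b, c} : Finset ℕ) h3.ge ⟨hρ, fun r hr s hs hne ⟨z, hz⟩ => hall r hr s hs hne z hz⟩
    (⊤ : Subgroup D) inferInstance).1
  exact hab (h1 a (by simp) b (by simp) (by rwa [card_top]) (by rwa [card_top]))

theorem orderOf_dvd_card_mem [Finite G] {H : Subgroup G} {x : G} (hx : x ∈ H) : orderOf x ∣ Nat.card H := by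
  simpa only [← Subgroup.orderOf_coe] using orderOf_dvd_natCard (⟨x, hx⟩ : H)

theorem exists_fourth : ∀ a b i : Fin 4, ∃ c : Fin 4, c ≠ a ∧ c ≠ b ∧ c ≠ i := by decide

variable {F : Type*} [Field F] [Fintype F] (h : SzField F m) [Finite G] {π : G →* Cfsg.Sz F m}

/-- The subgroup maps onto the quotient. -/
def Covers (π : G →* Cfsg.Sz F m) (N : Subgroup G) : Prop := ∀ s, ∃ x ∈ N, π x = s

/-- The Frattini argument for coverings. -/
theorem Covers.inf_normalizer {N H : Subgroup G} (hN : Covers π N) (hH : H ≤ π.ker) (hHN : H ≤ N)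
    (hNH : N ≤ normalizer (H : Set G)) {w : ℕ} [Fact w.Prime] (P : Sylow w H) :
    Covers π (N ⊓ normalizer (((P : Subgroup H).map H.subtype : Subgroup G) : Set G)) := by
  intro s
  obtain ⟨x, hx, rfl⟩ := hN s
  let α : MulAut H := H.normalizerMonoidHom ⟨x, hNH hx⟩
  obtain ⟨k, hk⟩ := MulAction.exists_smul_eq H (P.mapSurjective (f := α.toMonoidHom) α.surjective) P
  refine ⟨(k : G) * x, ⟨mul_mem (hHN k.2) hx, ?_⟩, by rw [map_mul, show π (k : G) = 1 from hH k.2, one_mul]⟩
  refine mem_normalizer_fintype ?_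
  rintro _ ⟨y, hy, rfl⟩
  refine ⟨k * α y * k⁻¹, ?_, ?_⟩
  · rw [← hk]
    exact mem_map_of_mem (MulAut.conj k).toMonoidHom (mem_map_of_mem α.toMonoidHom hy)
  · show (k : G) * (x * y * x⁻¹) * (k : G)⁻¹ = (k : G) * x * y * ((k : G) * x)⁻¹
    group

include h in
/-- A minimal cover inside a covering subgroup. -/
theorem exists_cover (hB : Bounded G m) {N : Subgroup G} (hN : Covers π N) :
    ∃ K : Subgroup G, K ≤ N ∧ Function.Surjective (π.comp K.subtype) ∧ IsMin (π.comp K.subtype) ∧ Bounded K m := by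
  obtain ⟨K, ⟨hKN, hK⟩, hmin⟩ := (Set.toFinite {K : Subgroup G | K ≤ N ∧ Covers π K}).exists_minimal
    ⟨N, le_rfl, hN⟩
  refine ⟨K, hKN, fun s => ?_, fun M hM => ?_, hB.sub K⟩
  · obtain ⟨x, hx, e⟩ := hK s
    exact ⟨⟨x, hx⟩, e⟩
  · have hc : Covers π (M.map K.subtype) := fun s => by
      obtain ⟨x, hx, e⟩ := hM.ge (mem_top s)
      exact ⟨x, ⟨x, hx, rfl⟩, e⟩
    have hle := hmin ⟨(map_subtype_le M).trans hKN, hc⟩ (map_subtype_le M)
    exact (eq_top_iff' M).2 fun k => by
      obtain ⟨x, hx, e⟩ := hle k.2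
      rwa [show k = x from Subtype.ext e.symm]

include h in
/-- Primes of all kinds divide the radical. -/
theorem dvd_ker (hπ : Function.Surjective π) [Group.IsSolvable π.ker] (hB : Bounded G m) (s : Fin 4 → ℕ)
    (hs : ∀ i, (s i).Prime) (hsd : ∀ i, s i ∣ M m i)
    (hpair : ∀ i j, i ≠ j → ∃ x y : G, orderOf x = s i ∧ orderOf y = s j ∧ Commute x y) (i : Fin 4) :
    s i ∣ Nat.card π.ker := by
  by_contra hno
  haveI := Fact.mk (hs i)
  have hne : ∀ x : G, orderOf x = s i → orderOf (π x) = s i := fun x hx => by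
    refine orderOf_eq_prime (by rw [← map_pow, ← hx, pow_orderOf_eq_one, map_one]) fun e => hno ?_
    have h1 := orderOf_dvd_card_mem (H := π.ker) e
    rwa [hx] at h1
  obtain ⟨a, b, hab, hai, hbi⟩ : ∃ a b : Fin 4, a ≠ b ∧ a ≠ i ∧ b ≠ i := by
    fin_cases i
    · exact ⟨1, 2, by decide⟩
    · exact ⟨0, 2, by decide⟩
    · exact ⟨0, 1, by decide⟩
    · exact ⟨0, 1, by decide⟩
  obtain ⟨x0, -, hx0, -, -⟩ := hpair i a hai.symm
  set D := centralizer ({x0} : Set G) ⊓ π.ker
  have hDdvd : ∀ j, j ≠ i → s j ∣ Nat.card D := by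
    intro j hj
    obtain ⟨x, y, hx, hy, hxy⟩ := hpair i j hj.symm
    have hy1 : π y = 1 := by
      have hdx : orderOf (π x) ∣ M m i := (hne x hx).symm ▸ hsd i
      have hdy : orderOf (π y) ∣ M m j := (orderOf_map_dvd π y).trans (hy ▸ hsd j)
      refine (commute_kinds h (hxy.map π) hj.symm hdx hdy).resolve_left fun e => ?_
      have := hne x hx
      rw [e, orderOf_one] at this
      exact (hs i).ne_one this.symm
    obtain ⟨u, hu⟩ := exists_conj_zpowers h (hne x hx) (hne x0 hx0)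
    obtain ⟨v, rfl⟩ := hπ u
    set x' := v * x * v⁻¹
    set R1 := (zpowers (π x0)).comap π
    have hx'R : x' ∈ R1 := by rw [mem_comap, map_mul, map_mul, map_inv]; exact hu
    have hx0R : x0 ∈ R1 := by rw [mem_comap]; exact mem_zpowers _
    have hcard : Nat.card R1 = Nat.card π.ker * s i := by
      have h1 := R1.card_mul_index
      rw [index_comap_of_surjective _ hπ] at h1
      have h2 := π.ker.card_mul_index
      rw [index_ker, MonoidHom.range_eq_top.2 hπ, card_top, ← (zpowers (π x0)).card_mul_index,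
        Nat.card_zpowers, hne x0 hx0, ← mul_assoc] at h2
      exact Nat.eq_of_mul_eq_mul_right (Nat.pos_of_ne_zero index_ne_zero_of_finite) (h1.trans h2.symm)
    have hsyl : ∀ z : G, orderOf z = s i → z ∈ R1 → ¬ s i ∣ ((zpowers z).subgroupOf R1).index := by
      intro z hz hzR hd
      have h1 := ((zpowers z).subgroupOf R1).card_mul_index
      rw [Nat.card_congr (subgroupOfEquivOfLe (zpowers_le.2 hzR)).toEquiv, Nat.card_zpowers, hz, hcard,
        mul_comm (Nat.card π.ker)] at h1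
      exact hno (Nat.eq_of_mul_eq_mul_left (hs i).pos h1 ▸ hd)
    have hP : ∀ z : G, orderOf z = s i → z ∈ R1 → IsPGroup (s i) ((zpowers z).subgroupOf R1) :=
      fun z hz hzR => IsPGroup.of_card (n := 1) (by
        rw [Nat.card_congr (subgroupOfEquivOfLe (zpowers_le.2 hzR)).toEquiv, Nat.card_zpowers, hz, pow_one])
    have hox' : orderOf x' = s i := (orderOf_conj_eq v x).trans hx
    obtain ⟨g, hg⟩ := MulAction.exists_smul_eq R1 ((hP x' hox' hx'R).toSylow (hsyl x' hox' hx'R))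
      ((hP x0 hx0 hx0R).toSylow (hsyl x0 hx0 hx0R))
    have hmem : (g : G) * x' * (g : G)⁻¹ ∈ zpowers x0 := by
      have h1 : g * ⟨x', hx'R⟩ * g⁻¹ ∈ (g • (hP x' hox' hx'R).toSylow (hsyl x' hox' hx'R) : Sylow (s i) R1) :=
        mem_map_of_mem (MulAut.conj g).toMonoidHom (show (⟨x', hx'R⟩ : R1) ∈ (zpowers x').subgroupOf R1 from
          mem_zpowers x')
      rw [hg] at h1
      exact h1
    have hgen : x0 ∈ zpowers ((g : G) * x' * (g : G)⁻¹) := by
      have he : zpowers ((g : G) * x' * (g : G)⁻¹) = zpowers x0 := eq_of_le_of_card_ge (zpowers_le.2 hmem)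
        (by rw [Nat.card_zpowers, Nat.card_zpowers, orderOf_conj_eq, hox', hx0])
      exact he ▸ mem_zpowers x0
    have hy' : ((g : G) * v) * y * ((g : G) * v)⁻¹ ∈ D := by
      refine ⟨mem_centralizer_singleton_iff.2 ?_, ?_⟩
      · refine SpecTri.comm_of_zpowers ?_ hgen
        show ((g : G) * v) * y * ((g : G) * v)⁻¹ * ((g : G) * (v * x * v⁻¹) * (g : G)⁻¹) = (g : G) * (v * x * v⁻¹) * (g : G)⁻¹ * (((g : G) * v) * y * ((g : G) * v)⁻¹)
        calc ((g : G) * v) * y * ((g : G) * v)⁻¹ * ((g : G) * (v * x * v⁻¹) * (g : G)⁻¹) = ((g : G) * v) * (y * x) * ((g : G) * v)⁻¹ := by group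
          _ = ((g : G) * v) * (x * y) * ((g : G) * v)⁻¹ := by rw [hxy.eq]
          _ = _ := by group
      · exact MonoidHom.normal_ker π |>.conj_mem y hy1 ((g : G) * v)
    have h1 := orderOf_dvd_card_mem hy'
    rwa [orderOf_conj_eq, hy] at h1
  obtain ⟨c, hca, hcb, hci⟩ := exists_fourth a b i
  haveI : Group.IsSolvable D := solvable_of_solvable_injective (inclusion_injective (inf_le_right : D ≤ π.ker))
  have hinj : ∀ {j k}, j ≠ k → s j ≠ s k := fun {j k} hjk e =>
    hjk (type_unique h.one_le (hs j) (hsd j) (e ▸ hsd k))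
  obtain ⟨r, hr, t, ht, hrt, z, hz⟩ := exists_joined (hs a) (hs b) (hs c) (hinj hab) (hinj hca.symm)
    (hinj hcb.symm) (hDdvd a hai) (hDdvd b hbi) (hDdvd c hci)
  obtain ⟨j, hji, rfl⟩ : ∃ j, j ≠ i ∧ r = s j := by
    simp only [Finset.mem_insert, Finset.mem_singleton] at hr
    rcases hr with rfl | rfl | rfl
    exacts [⟨a, hai, rfl⟩, ⟨b, hbi, rfl⟩, ⟨c, hci, rfl⟩]
  obtain ⟨k, hki, rfl⟩ : ∃ k, k ≠ i ∧ t = s k := by
    simp only [Finset.mem_insert, Finset.mem_singleton] at ht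
    rcases ht with rfl | rfl | rfl
    exacts [⟨a, hai, rfl⟩, ⟨b, hbi, rfl⟩, ⟨c, hci, rfl⟩]
  have hzc : Commute x0 (z : G) := (mem_centralizer_singleton_iff.1 z.2.1).symm
  have hzo : orderOf (z : G) = s j * s k := by rw [Subgroup.orderOf_coe, hz]
  exact hB.three_commute h.one_le hji.symm hki.symm (fun e => hrt (e ▸ rfl)) (hsd i) (hsd j) (hsd k)
    (hs i).ne_one (hs j).ne_one (hs k).ne_one (x := x0) (y := (z : G)) (z := (z : G))
    (dvd_of_eq hx0.symm) (hzo ▸ dvd_mul_right _ _) (hzo ▸ dvd_mul_left _ _) hzc hzc (Commute.refl _)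

include h in
/-- The step in the radical. -/
theorem kill (hπ : Function.Surjective π) [Group.IsSolvable π.ker] (hB : Bounded G m) {iu iw : Fin 4}
    (hiu : iu = 0 ∨ iu = 1) (hiw : iw = 1 ∨ iw = 2) (hne : iu ≠ iw) {a b c : ℕ} (ha : a.Prime) (hb : b.Prime)
    (hc : c.Prime) (had : a ∣ M m iu) (hbd : b ∣ M m iw) (hcd : c ∣ M m 2) {z : G} (hzk : z ∈ π.ker)
    (hz : orderOf z = a * b) : False := by
  classical
  haveI := Fact.mk ha
  haveI := Fact.mk hb
  have hm := h.one_le
  have hab : a ≠ b := fun e => hne (type_unique hm ha had (e ▸ hbd))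
  obtain ⟨H, hHR, hHS, hHH⟩ := SpecTri.exists_hall_primes π.ker ({a, b} : Finset ℕ)
  -- the normaliser covers
  set N := normalizer (H : Set G)
  have hN : Covers π N := by
    intro s
    obtain ⟨x, rfl⟩ := hπ s
    obtain ⟨k, hk, hkH⟩ := hHH (H.map (MulAut.conj x).toMonoidHom) (by
      rintro _ ⟨y, hy, rfl⟩
      exact (MonoidHom.normal_ker π).conj_mem y (hHR hy) x) (by
      intro t ht hd
      rw [card_map_of_injective (MulAut.conj x).injective] at hd
      exact hHS t ht hd)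
    refine ⟨k * x, mem_normalizer_fintype fun y hy => ?_, by rw [map_mul, show π k = 1 from hk, one_mul]⟩
    have h1 := hkH _ (mem_map_of_mem (MulAut.conj x).toMonoidHom hy)
    simp only [MulEquiv.coe_toMonoidHom, MulAut.conj_apply] at h1
    rw [show k * x * y * (k * x)⁻¹ = k * (x * y * x⁻¹) * k⁻¹ by group]
    exact h1
  -- the pair inside the Hall subgroup
  obtain ⟨k, hk, hkH⟩ := hHH (zpowers z) (zpowers_le.2 hzk) (by
    intro t ht hd
    rw [Nat.card_zpowers, hz] at hd
    rcases ht.dvd_mul.1 hd with e | e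
    · simp [(Nat.prime_dvd_prime_iff_eq ht ha).1 e]
    · simp [(Nat.prime_dvd_prime_iff_eq ht hb).1 e])
  set z' := k * z * k⁻¹
  have hz'H : z' ∈ H := hkH z (mem_zpowers z)
  have hz' : orderOf z' = a * b := (orderOf_conj_eq k z).trans hz
  set x := z' ^ b
  set y := z' ^ a
  have hxo : orderOf x = a := by
    rw [orderOf_pow' _ hb.ne_zero, hz', Nat.gcd_eq_right (dvd_mul_left b a), Nat.mul_div_cancel _ hb.pos]
  have hyo : orderOf y = b := by
    rw [orderOf_pow' _ ha.ne_zero, hz', Nat.gcd_eq_right (dvd_mul_right a b), Nat.mul_div_cancel_left _ ha.pos]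
  -- the first prime lies in a Sylow subgroup centralised by a cover
  obtain ⟨P, hP⟩ := IsPGroup.exists_le_sylow (show IsPGroup a (zpowers (⟨x, pow_mem hz'H b⟩ : H)) from
    IsPGroup.of_card (n := 1) (by rw [Nat.card_zpowers, Subgroup.orderOf_mk, hxo, pow_one]))
  have hN1 := hN.inf_normalizer hHR le_normalizer le_rfl P
  obtain ⟨K1, hK1, hs1, hm1, hB1⟩ := exists_cover h hB hN1
  have hr1 : K1.subtype.range = K1 := range_subtype K1
  have hx1 : (K1 : Subgroup G) ≤ centralizer ({x} : Set G) := by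
    have h1 := centralises h hs1 hm1 (ι := K1.subtype) K1.subtype_injective hB (w := a)
      (hw := ⟨ha⟩) (by
        rcases hiu with rfl | rfl
        · left
          exact (Nat.prime_dvd_prime_iff_eq ha Nat.prime_two).1 (ha.dvd_of_dvd_pow (show a ∣ 2 ^ 2 from had))
        · exact Or.inr had)
      (P.2.map H.subtype) (by rw [hr1]; exact hK1.trans inf_le_right)
    rw [hr1] at h1
    intro g hg
    refine mem_centralizer_singleton_iff.2 ?_
    exact (mem_centralizer_iff.1 (h1 hg) x ⟨_, hP (mem_zpowers _), rfl⟩).symm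
  -- the second prime in the centraliser
  set H1 := H ⊓ centralizer ({x} : Set G)
  set N2 := N ⊓ centralizer ({x} : Set G)
  have hN2 : Covers π N2 := fun s => by
    obtain ⟨g, e⟩ := hs1 s
    exact ⟨g.1, ⟨(hK1 g.2).1, hx1 g.2⟩, e⟩
  have hnorm : N2 ≤ normalizer (H1 : Set G) := fun g hg => mem_normalizer_fintype fun w hw => by
    refine ⟨(mem_normalizer_iff.1 hg.1 w).1 hw.1, mem_centralizer_singleton_iff.2 ?_⟩
    have e1 : g * x = x * g := mem_centralizer_singleton_iff.1 hg.2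
    have e2 : w * x = x * w := mem_centralizer_singleton_iff.1 hw.2
    calc g * w * g⁻¹ * x = g * w * (g⁻¹ * (x * g)) * g⁻¹ := by group
      _ = g * (w * x) * g⁻¹ := by rw [← e1]; group
      _ = (g * x) * w * g⁻¹ := by rw [e2]; group
      _ = x * (g * w * g⁻¹) := by rw [e1]; group
  obtain ⟨Q⟩ : Nonempty (Sylow b H1) := inferInstance
  have hN3 := hN2.inf_normalizer (inf_le_left.trans hHR) (inf_le_inf le_normalizer le_rfl) hnorm Q
  obtain ⟨K, hK, hs, hmn, hBK⟩ := exists_cover h hB hN3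
  have hr : K.subtype.range = K := range_subtype K
  set Qg := (Q : Subgroup H1).map H1.subtype
  have hQg : IsPGroup b Qg := Q.2.map _
  have hQne : Qg ≠ ⊥ := by
    rw [Ne, map_eq_bot_iff_of_injective _ H1.subtype_injective]
    refine Q.ne_bot_of_dvd_card ?_
    have h1 := orderOf_dvd_card_mem (H := H1) (x := y) ⟨pow_mem hz'H a, mem_centralizer_singleton_iff.2
      (pow_mul_comm z' a b)⟩
    rwa [hyo] at h1
  have hKx : ∀ g : K, Commute (g : G) x := fun g => mem_centralizer_singleton_iff.1 (hK g.2).1.2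
  have hQx : ∀ q ∈ Qg, Commute q x := by
    rintro _ ⟨q, -, rfl⟩
    exact mem_centralizer_singleton_iff.1 q.2.2
  have hKQ : K.subtype.range ≤ normalizer (Qg : Set G) := by rw [hr]; exact hK.trans inf_le_right
  have hbo : ∀ q ∈ Qg, q ≠ 1 → b ∣ orderOf q := by
    intro q hq hq1
    obtain ⟨e, he⟩ := IsPGroup.iff_orderOf.1 hQg ⟨q, hq⟩
    rw [Subgroup.orderOf_mk] at he
    rw [he]
    exact dvd_pow_self b fun e0 => hq1 (orderOf_eq_one_iff.1 (by rw [he, e0, pow_zero]))
  have hinj := K.subtype_injective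
  rcases hiw with rfl | rfl
  · -- `b` divides `q - 1`
    have hiu' : iu = 0 := hiu.resolve_right hne
    have hcen := centralises h hs hmn (ι := K.subtype) hinj hB (w := b) (hw := ⟨hb⟩) (Or.inr hbd) hQg hKQ
    obtain ⟨q, hq, hq1⟩ := Qg.bot_or_exists_ne_one.resolve_left hQne
    obtain ⟨g0, hg0⟩ := exists_order h 2
    obtain ⟨e, he⟩ := hcd
    have he0 : e ≠ 0 := fun e' => (M_pos hm 2).ne' (by rw [he, e', mul_zero])
    obtain ⟨g, -, hg⟩ := exists_odd_lift h hs hmn hBK (g := g0 ^ e) (d := c) (by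
      rw [orderOf_pow' _ he0, hg0, he, Nat.gcd_mul_left_left, Nat.mul_div_cancel _ (Nat.pos_of_ne_zero he0)])
      ((M_odd hm (i := 2) (by decide)).of_dvd_nat ⟨e, he⟩)
    exact hB.three_commute hm (i₁ := iu) (i₂ := 1) (i₃ := 2) hne (by rw [hiu']; decide) (by decide) had hbd
      (Dvd.intro e he.symm) ha.ne_one hb.ne_one hc.ne_one (x := x) (y := q) (z := (g : G))
      (dvd_of_eq hxo.symm) (hbo q hq hq1) (by rw [Subgroup.orderOf_coe, hg]) (hQx q hq).symm (hKx g).symm
      (mem_centralizer_iff.1 (hcen ⟨g, rfl⟩) q hq)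
  · rcases hiu with rfl | rfl
    · -- `a = 2`: an element of order dividing `q - 1` fixes a vector
      obtain ⟨p, hP1⟩ := exists_prim hm
      obtain ⟨C, u, hF, hC2, hC1⟩ := cover_z h hs hmn hBK hP1.dvd hP1.prime.one_lt
      haveI : Fact (Nat.Prime 2) := ⟨Nat.prime_two⟩
      obtain ⟨e, he⟩ := IsPGroup.iff_card.1 hC2
      obtain ⟨q, hq, hq1, hqu⟩ := fixes h hs hmn (ι := K.subtype) hinj (w := b) (hw := ⟨hb⟩) hQg hQne hKQ hF
        (by rw [he]; exact ((Nat.coprime_two_left.2 ((M_odd hm (i := 2) (by decide)).of_dvd_nat hbd))).pow_left e)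
        (((M_coprime hm (i := 1) (j := 2) (by decide)).coprime_dvd_left hP1.dvd).coprime_dvd_right hbd) hC1
      exact hB.three_commute hm (i₁ := 0) (i₂ := 2) (i₃ := 1) (by decide) (by decide) (by decide) had hbd
        hP1.dvd ha.ne_one hb.ne_one hP1.prime.ne_one (x := x) (y := q) (z := (u : G))
        (dvd_of_eq hxo.symm) (hbo q hq hq1) (by rw [Subgroup.orderOf_coe, hF.ord]) (hQx q hq).symm
        (hKx u).symm (Commute.symm hqu)
    · -- `a ∣ q - 1`: an element of order four fixes a vector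
      obtain ⟨C, u, hF, hCc, hC1⟩ := cover_member h hs hmn hBK (i := 3) (Or.inr rfl)
      have hb2 : b ≠ 2 := fun e => (Nat.not_even_iff_odd.2 (M_odd hm (i := 2) (by decide)))
        (even_iff_two_dvd.2 (e ▸ hbd))
      obtain ⟨q, hq, hq1, hqu⟩ := fixes h hs hmn (ι := K.subtype) hinj (w := b) (hw := ⟨hb⟩) hQg hQne hKQ hF
        (by rw [hCc]; exact (M_coprime hm (i := 3) (j := 2) (by decide)).coprime_dvd_right hbd)
        (by rw [show (4 : ℕ) = 2 ^ 2 by norm_num]
            exact ((Nat.coprime_primes Nat.prime_two hb).2 hb2.symm).pow_left 2) hC1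
      exact hB.three_commute hm (i₁ := 1) (i₂ := 2) (i₃ := 0) (by decide) (by decide) (by decide) had hbd
        (show 2 ∣ M m 0 from ⟨2, rfl⟩) ha.ne_one hb.ne_one (by norm_num) (x := x) (y := q) (z := (u : G))
        (dvd_of_eq hxo.symm) (hbo q hq hq1) (by rw [Subgroup.orderOf_coe, hF.ord]; norm_num)
        (hQx q hq).symm (hKx u).symm (Commute.symm hqu)

include h in
/-- No single `Sz(q)` on top of a solvable group. -/
theorem one_false (hπ : Function.Surjective π) [Group.IsSolvable π.ker] (hB : Bounded G m) (s : Fin 4 → ℕ)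
    (hs : ∀ i, (s i).Prime) (hsd : ∀ i, s i ∣ M m i)
    (hpair : ∀ i j, i ≠ j → ∃ x y : G, orderOf x = s i ∧ orderOf y = s j ∧ Commute x y) : False := by
  have hd := dvd_ker h hπ hB s hs hsd hpair
  have hinj : ∀ {j k}, j ≠ k → s j ≠ s k := fun {j k} hjk e =>
    hjk (type_unique h.one_le (hs j) (hsd j) (e ▸ hsd k))
  obtain ⟨r, hr, t, ht, hrt, z, hz⟩ := exists_joined (hs 0) (hs 1) (hs 2) (hinj (by decide))
    (hinj (by decide)) (hinj (by decide)) (hd 0) (hd 1) (hd 2)
  have hzo : orderOf (z : G) = r * t := by rw [Subgroup.orderOf_coe, hz]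
  simp only [Finset.mem_insert, Finset.mem_singleton] at hr ht
  rcases hr with rfl | rfl | rfl <;> rcases ht with rfl | rfl | rfl
  all_goals first
    | exact hrt rfl
    | exact kill h hπ hB (Or.inl rfl) (Or.inl rfl) (by decide) (hs 0) (hs 1) (hs 2) (hsd 0) (hsd 1) (hsd 2) z.2 hzo
    | exact kill h hπ hB (Or.inl rfl) (Or.inr rfl) (by decide) (hs 0) (hs 2) (hs 2) (hsd 0) (hsd 2) (hsd 2) z.2 hzo
    | exact kill h hπ hB (Or.inr rfl) (Or.inr rfl) (by decide) (hs 1) (hs 2) (hs 2) (hsd 1) (hsd 2) (hsd 2) z.2 hzo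
    | exact kill h hπ hB (Or.inl rfl) (Or.inl rfl) (by decide) (hs 0) (hs 1) (hs 2) (hsd 0) (hsd 1) (hsd 2) z.2 (hzo.trans (mul_comm _ _))
    | exact kill h hπ hB (Or.inl rfl) (Or.inr rfl) (by decide) (hs 0) (hs 2) (hs 2) (hsd 0) (hsd 2) (hsd 2) z.2 (hzo.trans (mul_comm _ _))
    | exact kill h hπ hB (Or.inr rfl) (Or.inr rfl) (by decide) (hs 1) (hs 2) (hs 2) (hsd 1) (hsd 2) (hsd 2) z.2 (hzo.trans (mul_comm _ _))

end Cfsg.Agent.SzSquare
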