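import Cfsg.Agent.Lib.SzSquare.Arith
import Cfsg.Agent.S2904

/-!
Groups whose element orders divide the product of two of the four kinds.
-/

set_option autoImplicit false
set_option linter.style.haveILetI false
set_option linter.unusedSectionVars false

namespace Cfsg.Agent.SzSquare

open Cfsg.Agent.SzMaxOrd (tA tB tA_mul_tB facts)

universe u v

/-- A prime of `q - 1` which divides no `2^k - 1` with `k < 2n`, `k ≠ n`. -/
structure Prim (m p : ℕ) : Prop where
  prime : p.Prime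
  dvd : p ∣ M m 1
  prim : ∀ k, 0 < k → k < 2 * (2 * m + 1) → k ≠ 2 * m + 1 → ¬ p ∣ 2 ^ k - 1
  not_dvd : ¬ p ∣ 2 * m + 1

theorem exists_prim {m : ℕ} (hm : 1 ≤ m) : ∃ p, Prim m p := by
  obtain ⟨p, hp, hd, hprim⟩ := S2904.result 2 (2 * m + 1) (by norm_num) (by omega) (by omega) (by omega)
  have hk : ∀ k, 0 < k → p ∣ 2 ^ k - 1 → 2 * m + 1 ∣ k := by
    intro k hk0 hkd
    have h1 : p ∣ 2 ^ Nat.gcd k (2 * m + 1) - 1 := by
      rw [← Nat.pow_sub_one_gcd_pow_sub_one]; exact Nat.dvd_gcd hkd hd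
    by_contra hn
    refine hprim _ (Nat.gcd_pos_of_pos_left _ hk0) ?_ h1
    refine lt_of_le_of_ne (Nat.gcd_le_right _ (by omega)) fun e => hn ?_
    rw [← e]
    exact Nat.gcd_dvd_left _ _
  refine ⟨p, hp, hd, fun k hk0 hk2 hkn hkd => ?_, fun hn => ?_⟩
  · obtain ⟨c, rfl⟩ := hk k hk0 hkd
    rcases Nat.lt_or_ge c 2 with hc | hc
    · interval_cases c <;> omega
    · nlinarith
  · haveI := Fact.mk hp
    have h2 : p ≠ 2 := fun e => (Nat.not_even_iff_odd.2 (mer_odd m)) (even_iff_two_dvd.2 (e ▸ hd))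
    have hne : (2 : ZMod p) ≠ 0 := by
      intro e
      have e' : ((2 : ℕ) : ZMod p) = 0 := by exact_mod_cast e
      exact h2 ((Nat.prime_dvd_prime_iff_eq hp Nat.prime_two).1 ((ZMod.natCast_eq_zero_iff _ p).1 e'))
    have h1 := ZMod.pow_card_sub_one_eq_one hne
    have h3 : p ∣ 2 ^ (p - 1) - 1 := by
      rw [← ZMod.natCast_eq_zero_iff, Nat.cast_sub Nat.one_le_two_pow]
      push_cast
      rw [h1, sub_self]
    have h4 := Nat.le_of_dvd (by have := hp.two_le; omega) (hk _ (by have := hp.two_le; omega) h3)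
    have h5 := Nat.le_of_dvd (by omega) hn
    have := hp.two_le
    omega

/-- A primitive prime is prime to the exponents of the smaller groups. -/
theorem Prim.not_dvd_expo {m p : ℕ} (hP : Prim m p) {l : ℕ} (hd : 2 * l + 1 ∣ 2 * m + 1)
    (hl : l < m) : ¬ p ∣ expo l := by
  intro h
  have hp2 : p ≠ 2 := fun e => (Nat.not_even_iff_odd.2 (mer_odd m)) (even_iff_two_dvd.2 (by have h2 := hP.dvd; rwa [e] at h2))
  rcases hP.prime.dvd_mul.1 h with h1 | h1
  · rcases hP.prime.dvd_mul.1 h1 with h2 | h2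
    · exact hp2 ((Nat.prime_dvd_prime_iff_eq hP.prime Nat.prime_two).1
        (hP.prime.dvd_of_dvd_pow (show p ∣ 2 ^ 2 by simpa using h2)))
    · rcases hP.prime.dvd_mul.1 h2 with h3 | h3
      · exact hP.prim _ (by omega) (by omega) (by omega) h3
      · exact hP.prime.ne_one (Nat.dvd_one.1 ((coprime_mer m (2 * l + 1)) ▸ Nat.dvd_gcd hP.dvd h3))
  · exact hP.not_dvd (h1.trans hd)

/-- Every kind has a prime divisor prime to `2m+1`. -/
theorem exists_primes {m : ℕ} (hm : 1 ≤ m) (hm2 : m ≠ 2) (i : Fin 4) :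
    ∃ c : ℕ, c.Prime ∧ c ∣ M m i ∧ ¬ c ∣ 2 * m + 1 := by
  by_cases h0 : i = 0
  · subst h0; exact ⟨2, Nat.prime_two, ⟨2, rfl⟩, by omega⟩
  by_cases h1 : i = 1
  · subst h1
    obtain ⟨p, hP⟩ := exists_prim hm
    exact ⟨p, hP.prime, hP.dvd, hP.not_dvd⟩
  exact exists_prime_torus hm hm2 (by fin_cases i <;> simp_all)

/-- Every element order divides the product of two of the four kinds. -/
def Bounded (G : Type*) [Group G] (m : ℕ) : Prop :=
  ∀ g : G, ∃ i j, i ≠ j ∧ orderOf g ∣ M m i * M m j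

/-- The two properties of the spectrum of `Sz(q) × Sz(q)`. -/
structure Omega (G : Type*) [Group G] (m : ℕ) : Prop where
  bd : Bounded G m
  pair : ∀ i j, i ≠ j → ∃ g : G, orderOf g = M m i * M m j

variable {G : Type u} [Group G] {m : ℕ}

theorem Bounded.sub (hB : Bounded G m) (H : Subgroup G) : Bounded H m := fun g => by
  simpa only [Subgroup.orderOf_coe] using hB g.1

theorem Bounded.quot {X : Type v} [Group X] (hB : Bounded G m) (f : G →* X) (hf : Function.Surjective f) :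
    Bounded X m := fun x => by
  obtain ⟨g, rfl⟩ := hf x
  obtain ⟨i, j, hij, hd⟩ := hB g
  exact ⟨i, j, hij, (orderOf_map_dvd f g).trans hd⟩

section

variable (hm : 1 ≤ m) (hB : Bounded G m)
include hm hB

/-- No order meets three kinds. -/
theorem Bounded.three {i₁ i₂ i₃ : Fin 4} (h12 : i₁ ≠ i₂) (h13 : i₁ ≠ i₃) (h23 : i₂ ≠ i₃) {a b c : ℕ}
    (ha : a ∣ M m i₁) (hb : b ∣ M m i₂) (hc : c ∣ M m i₃) (ha1 : a ≠ 1) (hb1 : b ≠ 1) (hc1 : c ≠ 1)
    {g : G} (hag : a ∣ orderOf g) (hbg : b ∣ orderOf g) (hcg : c ∣ orderOf g) : False := by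
  obtain ⟨i, j, -, hd⟩ := hB g
  have key : ∀ {k : Fin 4} {d : ℕ}, k ≠ i → k ≠ j → d ∣ M m k → d ∣ orderOf g → d = 1 := by
    intro k d hki hkj hdk hdg
    exact Nat.dvd_one.1 (((M_coprime hm hki).mul_right (M_coprime hm hkj)) ▸
      Nat.dvd_gcd hdk (hdg.trans hd))
  by_cases e1 : i₁ = i ∨ i₁ = j
  · by_cases e2 : i₂ = i ∨ i₂ = j
    · refine hc1 (key ?_ ?_ hc hcg) <;> rcases e1 with rfl | rfl <;> rcases e2 with rfl | rfl <;>
        first
        | exact absurd rfl h12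
        | exact h13.symm
        | exact h23.symm
    · push Not at e2; exact hb1 (key e2.1 e2.2 hb hbg)
  · push Not at e1; exact ha1 (key e1.1 e1.2 ha hag)

/-- A prime power in an order divides the kind of its prime. -/
theorem Bounded.pow_dvd {w k : ℕ} (hw : w.Prime) {i : Fin 4} (hwi : w ∣ M m i) {g : G}
    (hg : w ^ k ∣ orderOf g) : w ^ k ∣ M m i := by
  rcases Nat.eq_zero_or_pos k with rfl | hk
  · simp
  obtain ⟨i', j', hne, hd⟩ := hB g
  have hc : ∀ j, j ≠ i → (w ^ k).Coprime (M m j) := fun j hj =>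
    Nat.Coprime.pow_left k (hw.coprime_iff_not_dvd.2 fun h => hj (type_unique hm hw h hwi))
  by_cases hi : i' = i
  · subst hi
    exact (hc j' hne.symm).dvd_of_dvd_mul_right (hg.trans hd)
  · by_cases hj : j' = i
    · subst hj; exact (hc i' hi).dvd_of_dvd_mul_left (hg.trans hd)
    · have h1 := ((hc i' hi).mul_right (hc j' hj)).eq_one_of_dvd (hg.trans hd)
      exact absurd h1 (Nat.one_lt_pow hk.ne' hw.one_lt).ne'

theorem Bounded.not_pow_dvd {w k : ℕ} (hw : w.Prime) {i : Fin 4} (hwi : w ∣ M m i)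
    (hk : ¬ w ^ k ∣ M m i) (g : G) : ¬ w ^ k ∣ orderOf g := fun h => hk (hB.pow_dvd hm hw hwi h)

theorem Bounded.not_eight (g : G) : ¬ 8 ∣ orderOf g := by
  have h := hB.not_pow_dvd hm Nat.prime_two (i := 0) (k := 3) ⟨2, rfl⟩ (by rw [M0]; decide) g
  simpa using h

theorem Bounded.exists_type [Finite G] {p : ℕ} (hp : p.Prime) (hd : p ∣ Nat.card G) : ∃ i, p ∣ M m i := by
  haveI := Fact.mk hp
  obtain ⟨g, hg⟩ := exists_prime_orderOf_dvd_card' p hd
  obtain ⟨i, j, -, hij⟩ := hB g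
  rw [hg] at hij
  rcases hp.dvd_mul.1 hij with h | h
  · exact ⟨i, h⟩
  · exact ⟨j, h⟩

theorem Bounded.not_three_dvd [Finite G] : ¬ 3 ∣ Nat.card G := fun h => by
  obtain ⟨i, hi⟩ := hB.exists_type hm Nat.prime_three h
  exact three_not_dvd_M hm i hi

end

/-- Elements of order a product of divisors of two kinds. -/
theorem Omega.exists_pair (hm : 1 ≤ m) (hO : Omega G m) {i j : Fin 4} (hij : i ≠ j) {a b : ℕ}
    (ha : a ∣ M m i) (hb : b ∣ M m j) :
    ∃ x y : G, orderOf x = a ∧ orderOf y = b ∧ Commute x y ∧ orderOf (x * y) = a * b := by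
  obtain ⟨g, hg⟩ := hO.pair i j hij
  have hi := M_pos hm i
  have hj := M_pos hm j
  have key : ∀ d, d ∣ M m i * M m j → orderOf (g ^ (M m i * M m j / d)) = d := by
    intro d hd
    obtain ⟨e, he⟩ := hd
    rcases Nat.eq_zero_or_pos d with rfl | hd0
    · rw [zero_mul] at he
      exact absurd he (Nat.mul_pos hi hj).ne'
    have he0 : e ≠ 0 := by rintro rfl; rw [mul_zero] at he; exact (Nat.mul_pos hi hj).ne' he
    rw [he, Nat.mul_div_cancel_left _ hd0, orderOf_pow' _ he0, hg, he, Nat.gcd_mul_left_left,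
      Nat.mul_div_cancel _ (Nat.pos_of_ne_zero he0)]
  refine ⟨_, _, key a (ha.mul_right _), key b (hb.mul_left _), Commute.pow_pow_self g _ _, ?_⟩
  rw [(Commute.pow_pow_self g _ _).orderOf_mul_eq_mul_orderOf_of_coprime, key a (ha.mul_right _),
    key b (hb.mul_left _)]
  rw [key a (ha.mul_right _), key b (hb.mul_left _)]
  exact ((M_coprime hm hij).coprime_dvd_left ha).coprime_dvd_right hb

end Cfsg.Agent.SzSquare
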