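import Cfsg.Agent.Lib.SzSquare.Chief
import Cfsg.Agent.Lib.SzSquare.Full

/-!
Two components: the radical is trivial and the group is `Sz(q) × Sz(q)`.
-/

set_option autoImplicit false
set_option linter.style.haveILetI false
set_option linter.unusedSectionVars false

namespace Cfsg.Agent.SzSquare

open Cfsg.Agent.Suzuki Subgroup
open scoped IsMulCommutative commutatorElement

universe u v

variable {F : Type*} [Field F] [Fintype F] {m : ℕ} {K : Type*} [Field K] [Fintype K] {l : ℕ}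

/-- With two components, one over the whole field, the radical is trivial. -/
theorem ker_bot (h : SzField F m) (hK : SzField K l) (hd : 2 * l + 1 ∣ 2 * m + 1) {G : Type u} [Group G]
    [Finite G] (hB : Bounded G m) {X : Type u} [Group X] (π : G →* X) (hπ : Function.Surjective π)
    [Group.IsSolvable π.ker] (f : Cfsg.Sz K l × Cfsg.Sz F m →* X) (hf : Function.Injective f) : π.ker = ⊥ := by
  by_contra hne
  obtain ⟨R0, ⟨hR0n, hR0⟩, hmax⟩ := (Set.toFinite {R0 : Subgroup G | R0.Normal ∧ R0 < π.ker}).exists_maximal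
    ⟨⊥, inferInstance, bot_lt_iff_ne_bot.2 hne⟩
  haveI := hR0n
  let φ := QuotientGroup.mk' R0
  have hφ : Function.Surjective φ := QuotientGroup.mk'_surjective R0
  let π' : G ⧸ R0 →* X := QuotientGroup.lift R0 π hR0.le
  have hπ' : Function.Surjective π' := fun x => by
    obtain ⟨g, rfl⟩ := hπ x
    exact ⟨φ g, rfl⟩
  set V := π'.ker with hV
  have hVR : V = π.ker.map φ := by
    ext x
    obtain ⟨k, rfl⟩ := hφ x
    refine ⟨fun hx => ⟨k, hx, rfl⟩, ?_⟩
    rintro ⟨z, hz, e⟩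
    show π' (φ k) = 1
    rw [← e]; exact hz
  have hVne : V ≠ ⊥ := fun e => by
    rw [hVR, Subgroup.map_eq_bot_iff, QuotientGroup.ker_mk'] at e
    exact hR0.not_ge e
  have hchief : ∀ U : Subgroup (G ⧸ R0), U.Normal → U ≤ V → U ≠ V → U = ⊥ := by
    intro U hU hUV hne'
    have hR0U : R0 ≤ U.comap φ := fun k hk => by
      rw [mem_comap, show φ k = 1 from (QuotientGroup.eq_one_iff k).2 hk]; exact one_mem U
    have hUR : U.comap φ ≤ π.ker := fun k hk => by
      have h1 : π' (φ k) = 1 := hUV hk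
      exact h1
    rcases eq_or_lt_of_le hUR with e | e
    · exact absurd (by rw [hVR, ← e, map_comap_eq_self_of_surjective hφ]) hne'
    · rw [← map_comap_eq_self_of_surjective hφ U, eq_bot_iff]
      exact (map_mono (hmax ⟨hU.comap φ, e⟩ hR0U)).trans
        ((Subgroup.map_eq_bot_iff _).2 (QuotientGroup.ker_mk' R0).ge).le
  haveI hVs : Group.IsSolvable V := by
    rw [hVR]; exact Components.isSolvable_map _ _
  haveI : IsMulCommutative V := by
    haveI : Nontrivial V := (nontrivial_iff_ne_bot V).2 hVne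
    have hlt : commutator V < ⊤ := Group.IsSolvable.commutator_lt_top_of_nontrivial V
    have h1 := hchief ((commutator V).map V.subtype) inferInstance (map_subtype_le _) fun e =>
      hlt.ne (map_injective V.subtype_injective (by rw [e, ← MonoidHom.range_eq_map, range_subtype]))
    rw [map_eq_bot_iff_of_injective _ V.subtype_injective] at h1
    exact ⟨⟨fun a b => commutatorElement_eq_one_iff_mul_comm.1 (mem_bot.1
      (h1 ▸ commutator_mem_commutator (mem_top a) (mem_top b)))⟩⟩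
  obtain ⟨r, hr, hrV⟩ := Nat.exists_prime_and_dvd (n := Nat.card V) (by rw [Ne, card_eq_one]; exact hVne)
  haveI := Fact.mk hr
  have hVr : ∀ v ∈ V, v ^ r = 1 := by
    let Ω : Subgroup (G ⧸ R0) :=
      { carrier := {v | v ∈ V ∧ v ^ r = 1}
        one_mem' := ⟨one_mem V, one_pow r⟩
        mul_mem' := fun {a b} ha hb => ⟨mul_mem ha.1 hb.1, by
          have hc : Commute a b := congrArg Subtype.val (mul_comm' (⟨a, ha.1⟩ : V) ⟨b, hb.1⟩)
          rw [hc.mul_pow, ha.2, hb.2, one_mul]⟩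
        inv_mem' := fun {a} ha => ⟨inv_mem ha.1, by rw [inv_pow, ha.2, inv_one]⟩ }
    have hn : Ω.Normal := ⟨fun a ha g => ⟨(MonoidHom.normal_ker π').conj_mem a ha.1 g, by
      rw [conj_pow, ha.2]; simp⟩⟩
    obtain ⟨x, hx⟩ := exists_prime_orderOf_dvd_card' r hrV
    have hxΩ : (x : G ⧸ R0) ∈ Ω := ⟨x.2, by
      rw [← Subgroup.orderOf_coe] at hx
      rw [← hx]; exact pow_orderOf_eq_one _⟩
    have e : Ω = V := by
      by_contra hne'
      have h1 := hchief Ω hn (fun a ha => ha.1) hne'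
      rw [h1, mem_bot] at hxΩ
      rw [show x = 1 from Subtype.ext hxΩ, orderOf_one] at hx
      exact hr.ne_one hx.symm
    exact fun v hv => (e.ge hv).2
  -- the preimage of the two components
  set E := f.range.comap π'
  let e := MonoidHom.ofInjective hf
  let ψ : E →* Cfsg.Sz K l × Cfsg.Sz F m :=
    e.symm.toMonoidHom.comp ((π'.comp E.subtype).codRestrict f.range fun a => a.2)
  have hψ : Function.Surjective ψ := fun t => by
    obtain ⟨g, hg⟩ := hπ' (f t)
    refine ⟨⟨g, show π' g ∈ f.range from hg ▸ ⟨t, rfl⟩⟩, e.injective ?_⟩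
    show e (e.symm _) = e t
    rw [e.apply_symm_apply]
    exact Subtype.ext hg
  have hψk : ∀ a : E, a ∈ ψ.ker ↔ (a : G ⧸ R0) ∈ V := fun a => by
    rw [MonoidHom.mem_ker, hV, MonoidHom.mem_ker]
    constructor
    · intro h1
      have h2 := congrArg e h1
      rw [map_one, show e (ψ a) = (⟨π' a, a.2⟩ : f.range) from e.apply_symm_apply _] at h2
      exact congrArg Subtype.val h2
    · intro h1
      refine e.injective ?_
      rw [map_one, show e (ψ a) = (⟨π' a, a.2⟩ : f.range) from e.apply_symm_apply _]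
      exact Subtype.ext h1
  haveI : IsMulCommutative ψ.ker := ⟨⟨fun a b => by
    refine Subtype.ext (Subtype.ext ?_)
    have h1 := congrArg Subtype.val (mul_comm' (⟨_, (hψk a.1).1 a.2⟩ : V) ⟨_, (hψk b.1).1 b.2⟩)
    simpa using h1⟩⟩
  refine chief_false h hK hd ((hB.quot φ hφ).sub E) ψ hψ (r := r)
    (fun v hv => Subtype.ext (hVr _ ((hψk v).1 hv))) ?_
  obtain ⟨v, hv, hv1⟩ := V.bot_or_exists_ne_one.resolve_left hVne
  have hvE : v ∈ E := by rw [mem_comap, show π' v = 1 from hv]; exact one_mem _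
  exact fun e' => hv1 (congrArg Subtype.val (mem_bot.1 (e'.le ((hψk ⟨v, hvE⟩).2 hv))))

variable {X : Type u} [Group X] [Finite X]

/-- An element of `X` acts on two copies of `Sz(q)`. -/
structure Pair (f₁ f₂ : Cfsg.Sz F m →* X) : Prop where
  inj₁ : Function.Injective f₁
  inj₂ : Function.Injective f₂
  comm : ∀ s t, Commute (f₁ s) (f₂ t)
  cent : ∀ g : X, (∀ s, g * f₁ s = f₁ s * g) → (∀ s, g * f₂ s = f₂ s * g) → g = 1

namespace Pair

variable {f₁ f₂ : Cfsg.Sz F m →* X} (hP : Pair f₁ f₂) (h : SzField F m)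
include hP h

theorem center_eq {s : Cfsg.Sz F m} (hs : ∀ t, s * t = t * s) : s = 1 := by
  haveI := Suzuki.isSimple h
  have h1 : s ∈ center (Cfsg.Sz F m) := mem_center_iff.2 fun t => (hs t).symm
  rcases (inferInstance : (center (Cfsg.Sz F m)).Normal).eq_bot_or_eq_top with e | e
  · exact mem_bot.1 (e ▸ h1)
  · exfalso
    have hc : commutator (Cfsg.Sz F m) ≤ ⊥ := commutator_le.2 fun a _ b _ => by
      rw [mem_bot, commutatorElement_eq_one_iff_mul_comm]
      exact mem_center_iff.1 (e.ge (mem_top b)) a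
    rw [sz_not_comm h] at hc
    exact (top_ne_bot (α := Subgroup (Cfsg.Sz F m))) (le_bot_iff.1 hc)

theorem disjoint {s t : Cfsg.Sz F m} (e : f₁ s = f₂ t) : s = 1 := by
  refine hP.center_eq h fun u => hP.inj₁ ?_
  rw [map_mul, map_mul, e]
  exact (hP.comm u t).symm

theorem prod_injective : Function.Injective (f₁.noncommCoprod f₂ hP.comm) := by
  rw [injective_iff_map_eq_one]
  rintro ⟨s, t⟩ e
  rw [MonoidHom.noncommCoprod_apply] at e
  have e1 : f₁ s = f₂ t⁻¹ := by rw [map_inv]; exact eq_inv_of_mul_eq_one_left e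
  have hs := hP.disjoint h e1
  rw [hs, map_one, one_mul] at e
  rw [hs, show t = 1 from hP.inj₂ (e.trans (map_one f₂).symm)]
  rfl

/-- An element normalising both copies whose order divides no multiple of the degree is a product. -/
theorem inner_of_coprime {g : X} (h1 : g ∈ normalizer (f₁.range : Set X)) (h2 : g ∈ normalizer (f₂.range : Set X))
    (hg : (orderOf g).Coprime (2 * m + 1)) : ∃ a b, g = f₁ a * f₂ b := by
  obtain ⟨A₁, hA₁⟩ := exists_act hP.inj₁
  obtain ⟨A₂, hA₂⟩ := exists_act hP.inj₂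
  obtain ⟨k, hk⟩ := exists_pow_eq_self_of_coprime (x := g) hg.symm
  have hpow : ∀ {T : X} {A : MulAut (Cfsg.Sz F m)}, ∃ u, (A ^ (2 * m + 1)) ^ k = MulAut.conj u := fun {_ A} => by
    obtain ⟨u, hu⟩ := aut_pow_inner h A
    exact ⟨u ^ k, by rw [hu, map_pow]⟩
  obtain ⟨a, ha⟩ := hpow (T := g) (A := A₁ ⟨g, h1⟩)
  obtain ⟨b, hb⟩ := hpow (T := g) (A := A₂ ⟨g, h2⟩)
  rw [← map_pow, ← map_pow] at ha hb
  have e1 : ∀ s, f₁ (a * s * a⁻¹) = g * f₁ s * g⁻¹ := fun s => by
    have := hA₁ ((⟨g, h1⟩ ^ (2 * m + 1)) ^ k) s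
    rw [ha] at this
    simp only [SubmonoidClass.coe_pow, hk] at this
    exact this
  have e2 : ∀ s, f₂ (b * s * b⁻¹) = g * f₂ s * g⁻¹ := fun s => by
    have := hA₂ ((⟨g, h2⟩ ^ (2 * m + 1)) ^ k) s
    rw [hb] at this
    simp only [SubmonoidClass.coe_pow, hk] at this
    exact this
  refine ⟨a, b, (inv_mul_eq_one.1 (hP.cent ((f₁ a * f₂ b)⁻¹ * g) (fun s => ?_) fun s => ?_)).symm⟩
  · have h3 := e1 s
    rw [map_mul, map_mul, map_inv] at h3
    calc (f₁ a * f₂ b)⁻¹ * g * f₁ s = (f₁ a * f₂ b)⁻¹ * (g * f₁ s * g⁻¹) * g := by group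
      _ = (f₂ b)⁻¹ * f₁ s * ((f₁ a)⁻¹ * g) := by rw [← h3]; group
      _ = f₁ s * (f₂ b)⁻¹ * ((f₁ a)⁻¹ * g) := by rw [((hP.comm s b).inv_right).eq]
      _ = _ := by group
  · have h3 := e2 s
    rw [map_mul, map_mul, map_inv] at h3
    have hc1 : (f₁ a)⁻¹ * f₂ (b * s * b⁻¹) = f₂ (b * s * b⁻¹) * (f₁ a)⁻¹ := ((hP.comm a _).inv_left).eq
    calc (f₁ a * f₂ b)⁻¹ * g * f₂ s = (f₂ b)⁻¹ * ((f₁ a)⁻¹ * (g * f₂ s * g⁻¹)) * g := by group
      _ = (f₂ b)⁻¹ * ((f₁ a)⁻¹ * f₂ (b * s * b⁻¹)) * g := by rw [e2]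
      _ = (f₂ b)⁻¹ * (f₂ (b * s * b⁻¹) * (f₁ a)⁻¹) * g := by rw [hc1]
      _ = _ := by rw [map_mul, map_mul, map_inv]; group

/-- No element swaps the two copies. -/
theorem no_swap (hB : Bounded X m) {g : X} (hg1 : f₁.range.map (MulAut.conj g).toMonoidHom = f₂.range)
    (hg2 : f₂.range.map (MulAut.conj g).toMonoidHom = f₁.range) : False := by
  haveI : Fact (Nat.Prime 2) := ⟨Nat.prime_two⟩
  have hne : f₁.range ≠ f₂.range := fun e => by
    haveI := Suzuki.isSimple h
    obtain ⟨s, hs⟩ := exists_ne (1 : Cfsg.Sz F m)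
    obtain ⟨t, ht⟩ := e.le ⟨s, rfl⟩
    exact hs (hP.disjoint h ht.symm)
  have hsq : ∀ {y : X}, f₁.range.map (MulAut.conj y).toMonoidHom = f₂.range →
      f₂.range.map (MulAut.conj y).toMonoidHom = f₁.range →
      y ^ 2 ∈ normalizer (f₁.range : Set X) ∧ y ^ 2 ∈ normalizer (f₂.range : Set X) := by
    intro y e1 e2
    have e : ∀ L : Subgroup X, L.map (MulAut.conj (y ^ 2)).toMonoidHom =
        (L.map (MulAut.conj y).toMonoidHom).map (MulAut.conj y).toMonoidHom := fun L => by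
      rw [map_map]; congr 1
      ext z
      simp [pow_two, mul_assoc]
    exact ⟨mem_normalizer_of_map_conj (by rw [e, e1, e2]), mem_normalizer_of_map_conj (by rw [e, e2, e1])⟩
  -- a swapping 2-element
  obtain ⟨a, c, hc, hac⟩ := Nat.exists_eq_pow_mul_and_not_dvd (orderOf_pos g).ne' 2 (by norm_num)
  set y := g ^ c
  have hy : f₁.range.map (MulAut.conj y).toMonoidHom = f₂.range ∧
      f₂.range.map (MulAut.conj y).toMonoidHom = f₁.range := by
    obtain ⟨d, hd⟩ := Nat.odd_iff.2 (Nat.two_dvd_ne_zero.1 hc)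
    have hcomp : ∀ (L : Subgroup X) (p q : X), L.map (MulAut.conj (p * q)).toMonoidHom =
        (L.map (MulAut.conj q).toMonoidHom).map (MulAut.conj p).toMonoidHom := fun L p q => by
      rw [map_map]; congr 1
      ext z
      simp [mul_assoc]
    have key : ∀ d, f₁.range.map (MulAut.conj (g ^ (2 * d + 1))).toMonoidHom = f₂.range ∧
        f₂.range.map (MulAut.conj (g ^ (2 * d + 1))).toMonoidHom = f₁.range := by
      intro d
      induction d with
      | zero => rw [mul_zero, zero_add, pow_one]; exact ⟨hg1, hg2⟩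
      | succ d ih =>
        rw [show 2 * (d + 1) + 1 = 1 + (1 + (2 * d + 1)) by ring, pow_add, pow_add g 1, pow_one,
          hcomp, hcomp, ih.1, hcomp f₂.range, hcomp f₂.range, ih.2, hg2, hg1]
        exact ⟨hg1.symm ▸ rfl, hg2.symm ▸ rfl⟩
    have hyd : y = g ^ (2 * d + 1) := by simp only [y, hd]
    rw [hyd]
    exact key d
  obtain ⟨hn1, hn2⟩ := hsq hy.1 hy.2
  have hy2 : (orderOf (y ^ 2)).Coprime (2 * m + 1) := by
    refine Nat.Coprime.coprime_dvd_left (k := 2 ^ a) ?_ ((Nat.coprime_two_left.2 ⟨m, rfl⟩).pow_left a)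
    refine orderOf_dvd_of_pow_eq_one ?_
    rw [← pow_mul, ← pow_mul, show c * (2 * 2 ^ a) = 2 ^ a * c * 2 by ring, pow_mul, ← hac, pow_orderOf_eq_one,
      one_pow]
  obtain ⟨a1, b1, hab⟩ := hP.inner_of_coprime h hn1 hn2 hy2
  obtain ⟨u, hu⟩ := exists_order h 0
  rw [M0] at hu
  set x := f₁ (a1⁻¹ * u)
  have hx : y⁻¹ * x * y ∈ f₂.range := by
    obtain ⟨t, ht, e⟩ := hy.2.ge ⟨a1⁻¹ * u, rfl⟩
    have e' : y * t * y⁻¹ = x := e
    rw [← e', show y⁻¹ * (y * t * y⁻¹) * y = t by group]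
    exact ht
  obtain ⟨t, ht⟩ := hx
  have hsqr : (y * x) ^ 2 = f₁ u * f₂ (b1 * t) := by
    calc (y * x) ^ 2 = y ^ 2 * (y⁻¹ * x * y) * x := by rw [pow_two, pow_two]; group
      _ = f₁ a1 * f₂ b1 * f₂ t * f₁ (a1⁻¹ * u) := by rw [hab, ← ht]
      _ = f₁ a1 * (f₂ (b1 * t) * f₁ (a1⁻¹ * u)) := by rw [map_mul f₂]; group
      _ = f₁ a1 * (f₁ (a1⁻¹ * u) * f₂ (b1 * t)) := by rw [(hP.comm _ _).eq]
      _ = f₁ u * f₂ (b1 * t) := by rw [map_mul f₁, map_inv]; group
  have h4 : 4 ∣ orderOf ((y * x) ^ 2) := by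
    have h1 : ((f₁.noncommCoprod f₂ hP.comm) (u, b1 * t)) = (y * x) ^ 2 := by
      rw [MonoidHom.noncommCoprod_apply, hsqr]
    rw [← h1, orderOf_injective _ (hP.prod_injective h), Prod.orderOf_mk]
    exact (dvd_of_eq hu.symm).trans (Nat.dvd_lcm_left _ _)
  -- `y * x` swaps, so its order is even
  have h2 : 2 ∣ orderOf (y * x) := by
    by_contra hodd
    obtain ⟨d, hd⟩ := exists_pow_eq_self_of_coprime (x := y * x)
      ((Nat.prime_two.coprime_iff_not_dvd.2 hodd))
    have hmap : f₁.range.map (MulAut.conj (y * x)).toMonoidHom = f₂.range := by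
      rw [← hy.1]
      ext z
      simp only [mem_map, MulEquiv.coe_toMonoidHom, MulAut.conj_apply]
      constructor
      · rintro ⟨w, hw, rfl⟩
        exact ⟨x * w * x⁻¹, mul_mem (mul_mem ⟨_, rfl⟩ hw) (inv_mem ⟨_, rfl⟩), by group⟩
      · rintro ⟨w, hw, rfl⟩
        exact ⟨x⁻¹ * w * x, mul_mem (mul_mem (inv_mem ⟨_, rfl⟩) hw) ⟨_, rfl⟩, by group⟩
    have hmem : y * x ∈ normalizer (f₁.range : Set X) := by
      rw [← hd, hsqr]
      refine pow_mem (mul_mem (le_normalizer (show f₁ u ∈ f₁.range from ⟨u, rfl⟩)) (mem_normalizer_fintype fun z hz => ?_)) d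
      obtain ⟨s, rfl⟩ := hz
      rw [← (hP.comm s _).eq, mul_inv_cancel_right]
      exact ⟨s, rfl⟩
    refine hne (Eq.trans ?_ hmap)
    ext z
    simp only [mem_map, MulEquiv.coe_toMonoidHom, MulAut.conj_apply]
    constructor
    · intro hz
      exact ⟨(y * x)⁻¹ * z * (y * x), (mem_normalizer_iff''.1 hmem z).1 hz, by group⟩
    · rintro ⟨w, hw, rfl⟩
      exact (mem_normalizer_iff.1 hmem w).1 hw
  refine hB.not_eight h.one_le (y * x) ?_
  rw [orderOf_pow' _ two_ne_zero, Nat.gcd_eq_right h2] at h4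
  rw [show (8 : ℕ) = 4 * 2 by norm_num, ← Nat.div_mul_cancel h2]
  exact Nat.mul_dvd_mul_right h4 2

/-- No element induces field automorphisms. -/
theorem eq_prod (hm2 : m ≠ 2) (hB : Bounded X m) {g : X} (h1 : g ∈ normalizer (f₁.range : Set X))
    (h2 : g ∈ normalizer (f₂.range : Set X)) : g ∈ (f₁.noncommCoprod f₂ hP.comm).range := by
  classical
  set n := 2 * m + 1 with hn
  obtain ⟨A₁, hA₁⟩ := exists_act hP.inj₁
  obtain ⟨A₂, hA₂⟩ := exists_act hP.inj₂
  obtain ⟨j1, hj1, u1, hu1⟩ := exists_inner_mul_frob h (A₁ ⟨g, h1⟩)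
  obtain ⟨j2, hj2, u2, hu2⟩ := exists_inner_mul_frob h (A₂ ⟨g, h2⟩)
  set g' := (f₁ u1 * f₂ u2)⁻¹ * g
  have key1 : ∀ s, g' * f₁ s = f₁ (frobAut h j1 s) * g' := fun s => by
    have h3 := hA₁ ⟨g, h1⟩ s
    rw [hu1, MulAut.mul_apply, MulAut.conj_apply, map_mul, map_mul, map_inv] at h3
    calc g' * f₁ s = (f₂ u2)⁻¹ * (f₁ u1)⁻¹ * (g * f₁ s * g⁻¹) * g := by simp only [g']; group
      _ = (f₂ u2)⁻¹ * f₁ (frobAut h j1 s) * ((f₁ u1)⁻¹ * g) := by rw [← h3]; group
      _ = f₁ (frobAut h j1 s) * (f₂ u2)⁻¹ * ((f₁ u1)⁻¹ * g) := by rw [((hP.comm _ u2).inv_right).eq]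
      _ = f₁ (frobAut h j1 s) * ((f₁ u1)⁻¹ * (f₂ u2)⁻¹ * ((f₁ u1) * (f₁ u1)⁻¹)) * g := by
          rw [((hP.comm u1 u2).inv_inv).eq]; group
      _ = f₁ (frobAut h j1 s) * g' := by
          simp only [g', mul_inv_rev]; rw [mul_inv_cancel, mul_one, ((hP.comm u1 u2).inv_inv).eq, mul_assoc]
  have key2 : ∀ s, g' * f₂ s = f₂ (frobAut h j2 s) * g' := fun s => by
    have h3 := hA₂ ⟨g, h2⟩ s
    rw [hu2, MulAut.mul_apply, MulAut.conj_apply, map_mul, map_mul, map_inv] at h3
    have hg' : g' = (f₁ u1)⁻¹ * (f₂ u2)⁻¹ * g := by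
      simp only [g', mul_inv_rev]; rw [((hP.comm u1 u2).inv_inv).eq]
    rw [hg']
    calc (f₁ u1)⁻¹ * (f₂ u2)⁻¹ * g * f₂ s = (f₁ u1)⁻¹ * (f₂ u2)⁻¹ * (g * f₂ s * g⁻¹) * g := by group
      _ = ((f₁ u1)⁻¹ * f₂ (frobAut h j2 s)) * (f₂ u2)⁻¹ * g := by rw [← h3]; group
      _ = (f₂ (frobAut h j2 s) * (f₁ u1)⁻¹) * (f₂ u2)⁻¹ * g := by rw [((hP.comm u1 _).inv_left).eq]
      _ = _ := by group
  by_cases hg1 : g' = 1
  · refine ⟨(u1, u2), ?_⟩
    rw [MonoidHom.noncommCoprod_apply]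
    exact inv_mul_eq_one.1 hg1
  exfalso
  have hpow : ∀ (j : ℕ) (f : Cfsg.Sz F m →* X), (∀ s, g' * f s = f (frobAut h j s) * g') →
      ∀ (k : ℕ) s, g' ^ k * f s = f ((frobAut h j ^ k) s) * g' ^ k := by
    intro j f hf k
    induction k with
    | zero => intro s; simp
    | succ k ih =>
      intro s
      rw [pow_succ, mul_assoc, hf, ← mul_assoc, ih, mul_assoc, pow_succ (frobAut h j), MulAut.mul_apply]
  have hgn : g' ^ n = 1 := hP.cent _ (fun s => by rw [hpow j1 f₁ key1, frobAut_card h, MulAut.one_apply])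
    (fun s => by rw [hpow j2 f₂ key2, frobAut_card h, MulAut.one_apply])
  obtain ⟨s, hs, hsd⟩ := Nat.exists_prime_and_dvd (n := orderOf g') (mt orderOf_eq_one_iff.1 hg1)
  haveI := Fact.mk hs
  have hsn : s ∣ n := hsd.trans (orderOf_dvd_of_pow_eq_one hgn)
  set e := orderOf g' / s
  set z := g' ^ e
  have hz : orderOf z = s := by
    have he : e * s = orderOf g' := Nat.div_mul_cancel hsd
    have he0 : e ≠ 0 := fun e0 => (orderOf_pos g').ne' (by rw [← he, e0, zero_mul])
    rw [orderOf_pow' _ he0, ← he, Nat.gcd_mul_right_left, Nat.mul_div_cancel_left _ (Nat.pos_of_ne_zero he0)]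
  have fix1 : ∀ t, (∀ i, frobAut h i t = t) → Commute z (f₁ t) := fun t ht => by
    have h3 := hpow j1 f₁ key1 e t
    rwa [frobAut_pow, ht] at h3
  have fix2 : ∀ t, (∀ i, frobAut h i t = t) → Commute z (f₂ t) := fun t ht => by
    have h3 := hpow j2 f₂ key2 e t
    rwa [frobAut_pow, ht] at h3
  have hT1 : ∀ i, frobAut h i (T h (1 : F) 0) = T h 1 0 := fun i => by
    rw [frobAut_T, one_pow, zero_pow (pow_ne_zero _ two_ne_zero)]
  have hc1 := fix1 _ hT1
  obtain ⟨is, his⟩ := hB.exists_type h.one_le hs (hz ▸ orderOf_dvd_natCard z)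
  have hs2 : s ≠ 2 := fun e2 => by
    have : 2 ∣ n := e2 ▸ hsn
    omega
  have hs0 : is ≠ 0 := fun e0 => by
    subst e0
    exact hs2 ((Nat.prime_dvd_prime_iff_eq hs Nat.prime_two).1 (hs.dvd_of_dvd_pow (show s ∣ 2 ^ 2 from his)))
  obtain ⟨i5, hi5, h5⟩ := five_kind h.one_le
  by_cases hs1 : is = 1
  · exact hB.three_commute h.one_le (i₁ := 1) (i₂ := 0) (i₃ := i5) (by decide)
      (by rcases hi5 with rfl | rfl <;> decide) (by rcases hi5 with rfl | rfl <;> decide) (a := s) (b := 4) (c := 5)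
      (hs1 ▸ his) dvd_rfl h5 hs.ne_one (by norm_num) (by norm_num) (x := z) (y := f₁ (T h 1 0))
      (z := f₂ (W h * T h 0 1)) (dvd_of_eq hz.symm) (by rw [orderOf_injective f₁ hP.inj₁, orderOf_T_one h])
      (by rw [orderOf_injective f₂ hP.inj₂, (five h).1]) hc1 (fix2 _ (five h).2) (hP.comm _ _)
  · -- a torus element in the fixed field
    obtain ⟨d, hd⟩ := hsn
    by_cases hd1 : d = 1
    · -- the degree is the prime `s`, so it is five
      have hns : n = s := by rw [hd, hd1, mul_one]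
      have hsq : s ∣ (2 ^ n) ^ 2 + 1 := by
        have h23 : is = 2 ∨ is = 3 := by fin_cases is <;> simp_all
        rw [hn, ← SzMaxOrd.tA_mul_tB h.one_le]
        rcases h23 with rfl | rfl
        · exact his.mul_right _
        · exact his.mul_left _
      have h0 := (ZMod.natCast_eq_zero_iff _ s).2 hsq
      push_cast at h0
      rw [hns, ZMod.pow_card] at h0
      have h5' : ((5 : ℕ) : ZMod s) = 0 := by push_cast; linear_combination h0
      have := (Nat.prime_dvd_prime_iff_eq hs Nat.prime_five).1 ((ZMod.natCast_eq_zero_iff _ s).1 h5')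
      omega
    · obtain ⟨k0, -, -, hk0⟩ := exists_gen h
      have hdn : 2 ^ d - 1 ∣ 2 ^ n - 1 := Nat.pow_sub_one_dvd_pow_sub_one 2 ⟨s, by rw [hd]; ring⟩
      obtain ⟨c, hc⟩ := hdn
      have hc0 : c ≠ 0 := fun e0 => by
        rw [e0, mul_zero] at hc
        exact (M_pos h.one_le 1).ne' hc
      set k := k0 ^ c
      have hko : orderOf k = 2 ^ d - 1 := by
        rw [orderOf_pow' _ hc0, hk0, ← hn, hc, Nat.gcd_mul_left_left, Nat.mul_div_cancel _ (Nat.pos_of_ne_zero hc0)]
      -- the exponent of the automorphism is a multiple of `d`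
      have hfix : frobAut h (e * j2) (H h k) = H h k := by
        have he : frobAut h (e * j2) ^ s = 1 := by
          rw [← frobAut_pow, ← pow_mul, Nat.div_mul_cancel hsd]
          refine MulEquiv.ext fun t => hP.inj₂ ?_
          have h3 := hpow j2 f₂ key2 (orderOf g') t
          rw [pow_orderOf_eq_one, one_mul, mul_one] at h3
          rw [← h3, MulAut.one_apply]
        have h4 : n ∣ e * j2 * s := by
          rw [frobAut_pow] at he
          have h5 := DFunLike.congr_fun he (H h k0)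
          rw [frobAut_H, MulAut.one_apply] at h5
          have h6 : k0 ^ (2 ^ (s * (e * j2)) - 1) = 1 := by
            have h7 : k0 ^ 2 ^ (s * (e * j2)) = k0 := H_injective h h5
            calc k0 ^ (2 ^ (s * (e * j2)) - 1) = k0 ^ (2 ^ (s * (e * j2)) - 1) * k0 * k0⁻¹ :=
                  (mul_inv_cancel_right _ _).symm
              _ = 1 := by rw [← pow_succ, Nat.sub_add_cancel Nat.one_le_two_pow, h7, mul_inv_cancel]
          have h8 := orderOf_dvd_of_pow_eq_one h6
          rw [hk0] at h8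
          have h9 := Nat.gcd_eq_left h8
          rw [Nat.pow_sub_one_gcd_pow_sub_one] at h9
          have h10 := Nat.one_le_two_pow (n := 2 * m + 1)
          have h11 := Nat.one_le_two_pow (n := Nat.gcd (2 * m + 1) (s * (e * j2)))
          have h12 : 2 ^ Nat.gcd (2 * m + 1) (s * (e * j2)) = 2 ^ (2 * m + 1) := by omega
          rw [hn, ← Nat.pow_right_injective le_rfl h12, mul_comm (e * j2)]
          exact Nat.gcd_dvd_right _ _
        obtain ⟨w, hw⟩ : d ∣ e * j2 := by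
          refine Nat.dvd_of_mul_dvd_mul_right hs.pos ?_
          rw [mul_comm d, ← hd]; exact h4
        rw [frobAut_H]
        congr 1
        have h13 : ∀ w, k ^ 2 ^ (d * w) = k := by
          intro w
          induction w with
          | zero => simp
          | succ w ih =>
            rw [Nat.mul_succ, pow_add, pow_mul k, ih]
            calc k ^ 2 ^ d = k ^ (2 ^ d - 1) * k := by rw [← pow_succ, Nat.sub_add_cancel Nat.one_le_two_pow]
              _ = k := by rw [← hko, pow_orderOf_eq_one, one_mul]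
        rw [hw]; exact h13 w
      have hc2 : Commute z (f₂ (H h k)) := by
        have h3 := hpow j2 f₂ key2 e (H h k)
        rwa [frobAut_pow, hfix] at h3
      have hk1 : 2 ^ d - 1 ≠ 1 := by
        intro e1
        have : 2 ^ d = 2 ^ 1 := by omega
        exact hd1 (Nat.pow_right_injective le_rfl this)
      exact hB.three_commute h.one_le (i₁ := is) (i₂ := 0) (i₃ := 1) hs0 hs1 (by decide) (a := s) (b := 4)
        (c := 2 ^ d - 1) his dvd_rfl (Dvd.intro c hc.symm) hs.ne_one (by norm_num) hk1 (x := z)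
        (y := f₁ (T h 1 0)) (z := f₂ (H h k)) (dvd_of_eq hz.symm)
        (by rw [orderOf_injective f₁ hP.inj₁, orderOf_T_one h])
        (by rw [orderOf_injective f₂ hP.inj₂, orderOf_H, hko]) hc1 hc2 (hP.comm _ _)

end Pair

end Cfsg.Agent.SzSquare
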